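import Groth.Agent.PerfB.DQAffDiag
import Groth.Agent.PerfC.RpushSingle
import Groth.Agent.PerfC.RpushAffine
import Groth.Agent.PerfC.QCohInj
import Groth.Agent.S0922

/-!
# Injective quasi-coherent modules are acyclic for direct images, schemes with affine diagonal
-/

set_option autoImplicit false
universe v u

open CategoryTheory CategoryTheory.Limits AlgebraicGeometry
attribute [local instance] HasDerivedCategory.standard

namespace K369.AffDiagAcyc

open Groth.Agent Groth.Agent.PerfC.QCohInj Scheme.Modules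

variable {X Y : Scheme.{u}}

/-- Morphisms from an affine scheme to a scheme with affine diagonal are affine. -/
theorem isAffineHom_of_diag {Z : Scheme.{u}} [IsAffine Z]
    (hd : ∀ U V : Y.Opens, IsAffineOpen U → IsAffineOpen V → IsAffineOpen (U ⊓ V)) (g : Z ⟶ Y) :
    IsAffineHom g := by
  refine ⟨fun V hV => ?_⟩
  have hV' : IsAffine V := hV
  have h1 : IsAffineHom V.ι := ⟨fun U hU => PerfB.DQAffDiag.isAffineOpen_preimage V.ι hd hU⟩
  have h2 : IsAffineHom (g ⁻¹ᵁ V).ι := MorphismProperty.of_isPullback (isPullback_morphismRestrict g V) h1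
  exact isAffine_of_isAffineHom (g ⁻¹ᵁ V).ι

/-- Higher direct images of `j_* M`. -/
theorem isZero_Rpush_push [HasInjectiveResolutions X.Modules] {Z : Scheme.{u}} (j : Z ⟶ X) (f : X ⟶ Y)
    [IsAffineHom j] [IsAffineHom (j ≫ f)] (M : Z.Modules) (hM : Coh.IsQCoh M) (i : ℕ) (hi : 0 < i) :
    IsZero ((Coh.Rpush f i).obj ((pushforward j).obj M)) := by
  have b1 := Dcoh.DerSch.hasRpush j
  have b2 := Dcoh.DerSch.hasRpush f
  have b3 := Dcoh.DerSch.hasRpush (j ≫ f)
  have key : ∀ {A B : Scheme.{u}} (g : A ⟶ B) [IsAffineHom g] [DCoh.HasRpush g] (N : A.Modules)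
      (hN : Coh.IsQCoh N), Nonempty ((DCoh.Rpush g).obj (DCoh.inD A N) ≅
        DCoh.inD B ((pushforward g).obj N)) := by
    intro A B g _ _ N hN
    let K := (HomologicalComplex.single A.Modules (ComplexShape.up ℤ) 0).obj N
    have hK : ∀ n, Coh.IsQCoh (K.X n) := by
      intro n
      by_cases hn : n = 0
      · subst hn
        exact PerfB.QCohLocal.isQCoh_of_iso
          (HomologicalComplex.singleObjXSelf (ComplexShape.up ℤ) 0 N).symm hN
      · exact PerfA.QCohSerre.isQCoh_of_isZero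
          (HomologicalComplex.isZero_single_obj_X _ _ _ _ hn)
    have e1 : DCoh.inD A N ≅ DerivedCategory.Q.obj K :=
      (DerivedCategory.singleFunctorIsoCompQ A.Modules 0).app N
    have e2 := PerfC.RpushAffine.rpushIsoOfQCoh g K hK
    have e3 : ((pushforward g).mapHomologicalComplex (ComplexShape.up ℤ)).obj K ≅
        (HomologicalComplex.single B.Modules (ComplexShape.up ℤ) 0).obj ((pushforward g).obj N) :=
      (HomologicalComplex.singleMapHomologicalComplex (pushforward g) (ComplexShape.up ℤ) 0).app N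
    exact ⟨(DCoh.Rpush g).mapIso e1 ≪≫ e2 ≪≫ DerivedCategory.Q.mapIso e3 ≪≫
      ((DerivedCategory.singleFunctorIsoCompQ B.Modules 0).app _).symm⟩
  obtain ⟨e1⟩ := key j M hM
  obtain ⟨e2⟩ := key (j ≫ f) M hM
  obtain ⟨e3⟩ := S0922.result j f
  have e4 : (DCoh.Rpush f).obj (DCoh.inD X ((pushforward j).obj M)) ≅
      DCoh.inD Y ((pushforward (j ≫ f)).obj M) :=
    (DCoh.Rpush f).mapIso e1.symm ≪≫ e3.app _ ≪≫ e2
  refine IsZero.of_iso ?_ ((PerfC.RpushSingle.iso f i ((pushforward j).obj M)).symm ≪≫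
    (DerivedCategory.homologyFunctor _ (i : ℤ)).mapIso e4)
  have h5 : (DCoh.inD Y ((pushforward (j ≫ f)).obj M)).IsLE 0 := inferInstance
  exact DerivedCategory.isZero_of_isLE _ 0 (i : ℤ) (by exact_mod_cast hi)

/-- Quasi-coherent modules embed in finite products of modules `j_* N~`. -/
theorem exists_embedding [CompactSpace X]
    (hd : ∀ U V : X.Opens, IsAffineOpen U → IsAffineOpen V → IsAffineOpen (U ⊓ V))
    (M : X.Modules) (hM : Coh.IsQCoh M) :
    ∃ (ι : Type) (_ : Finite ι) (R : ι → CommRingCat.{u}) (j : ∀ i, Spec (R i) ⟶ X)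
      (_ : ∀ i, IsOpenImmersion (j i))
      (I : ∀ i, ModuleCat.{u} (R i))
      (φ : M ⟶ ∏ᶜ fun i => (pushforward (j i)).obj ((tilde.functor (R i)).obj (I i))),
      Mono φ ∧ Coh.IsQCoh (∏ᶜ fun i => (pushforward (j i)).obj ((tilde.functor (R i)).obj (I i))) := by
  obtain ⟨ι, hι, U, hU⟩ := exists_finite_affine_cover X
  have hq : ∀ i, Coh.IsQCoh ((pushforward (U i).2.fromSpec).obj
      ((tilde.functor Γ(X, (U i).1)).obj (Injective.under (secMod (U i).2.fromSpec M)))) :=
    fun i => PerfB.DQAffDiag.isQCoh_push _ hd _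
  refine ⟨ι, hι, fun i => Γ(X, (U i).1), fun i => (U i).2.fromSpec, fun i => inferInstance,
    fun i => Injective.under (secMod (U i).2.fromSpec M),
    Pi.lift fun i => toPush (U i).2.fromSpec M hM, ?_, isQCoh_pi _ hq⟩
  rw [Preadditive.mono_iff_isZero_kernel]
  refine PerfA.Restrict.isZero_of_restrict _ fun x => ?_
  obtain ⟨i, hi⟩ := hU x
  refine ⟨_, (U i).2.fromSpec, inferInstance, ?_⟩
  obtain ⟨y, hy⟩ : ∃ y, (U i).2.fromSpec y = x := by
    have : x ∈ Set.range (U i).2.fromSpec := by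
      rw [(U i).2.range_fromSpec]; exact hi
    exact this
  refine ⟨y, hy, ?_⟩
  set φ : M ⟶ _ := Pi.lift fun i => toPush (U i).2.fromSpec M hM with hφ
  have h1 : kernel.ι φ ≫ toPush (U i).2.fromSpec M hM = 0 := by
    have : φ ≫ Pi.π _ i = toPush (U i).2.fromSpec M hM := by simp [hφ]
    rw [← this, kernel.condition_assoc, zero_comp]
  have h2 : (restrictFunctor (U i).2.fromSpec).map (kernel.ι φ) = 0 := by
    rw [← cancel_mono ((restrictFunctor (U i).2.fromSpec).map (toPush (U i).2.fromSpec M hM)),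
      ← Functor.map_comp, h1, Functor.map_zero, zero_comp]
  have h3 : Mono ((restrictFunctor (U i).2.fromSpec).map (kernel.ι φ)) := by
    have := PerfA.Restrict.preservesLimits_restrictFunctor (U i).2.fromSpec
    infer_instance
  rw [IsZero.iff_id_eq_zero, ← cancel_mono ((restrictFunctor (U i).2.fromSpec).map (kernel.ι φ)),
    h2, comp_zero, comp_zero]

/-- Additive functors and vanishing on finite products. -/
theorem isZero_map_pi {C D : Type*} [Category C] [Category D] [Abelian C] [Abelian D] (F : C ⥤ D)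
    [F.Additive] {ι : Type} [Finite ι] (P : ι → C) (h : ∀ i, IsZero (F.obj (P i))) :
    IsZero (F.obj (∏ᶜ P)) := by
  have : HasFiniteBiproducts C := Abelian.hasFiniteBiproducts
  have := Fintype.ofFinite ι
  have e : (∏ᶜ P) ≅ ⨁ P := (biproduct.isoProduct P).symm
  refine IsZero.of_iso ?_ (F.mapIso e)
  rw [IsZero.iff_id_eq_zero, ← F.map_id, ← biproduct.total, F.map_sum]
  refine Finset.sum_eq_zero fun i _ => ?_
  rw [F.map_comp, (h i).eq_of_tgt (F.map (biproduct.π P i)) 0, zero_comp]

/-- **Acyclicity**. -/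
theorem isZero_Rpush_of_injective [CompactSpace X] [HasInjectiveResolutions X.Modules]
    (hdX : ∀ U V : X.Opens, IsAffineOpen U → IsAffineOpen V → IsAffineOpen (U ⊓ V))
    (hdY : ∀ U V : Y.Opens, IsAffineOpen U → IsAffineOpen V → IsAffineOpen (U ⊓ V))
    (f : X ⟶ Y) (J : ObjectProperty.FullSubcategory (fun M : X.Modules => Coh.IsQCoh M))
    (hJ : Injective J) (i : ℕ) (hi : 0 < i) : IsZero ((Coh.Rpush f i).obj J.obj) := by
  obtain ⟨ι, hι, R, j, hj, I, φ, hφ, hq⟩ := exists_embedding hdX J.obj J.property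
  let P : ObjectProperty.FullSubcategory (fun M : X.Modules => Coh.IsQCoh M) := ⟨_, hq⟩
  let φ' : J ⟶ P := ⟨φ⟩
  have hφ' : Mono φ' := by
    have : Mono ((ObjectProperty.ι (fun M : X.Modules => Coh.IsQCoh M)).map φ') := hφ
    exact Functor.mono_of_mono_map _ this
  let r : P ⟶ J := Injective.factorThru (𝟙 J) φ'
  have hr : φ' ≫ r = 𝟙 J := Injective.comp_factorThru _ _
  have hr' : φ ≫ r.hom = 𝟙 J.obj := congrArg (fun f : J ⟶ J => f.hom) hr
  have hadd : (Coh.Rpush f i).Additive := by
    dsimp [Coh.Rpush]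
    infer_instance
  have h1 : IsZero ((Coh.Rpush f i).obj
      (∏ᶜ fun i => (pushforward (j i)).obj ((tilde.functor (R i)).obj (I i)))) := by
    refine isZero_map_pi _ _ fun k => ?_
    have a1 : IsAffineHom (j k) := isAffineHom_of_diag hdX (j k)
    have a2 : IsAffineHom (j k ≫ f) := isAffineHom_of_diag hdY _
    exact isZero_Rpush_push (j k) f _
      (inferInstanceAs (((tilde.functor (R k)).obj (I k)).IsQuasicoherent)) i hi
  rw [IsZero.iff_id_eq_zero, ← (Coh.Rpush f i).map_id, ← hr', Functor.map_comp,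
    h1.eq_of_tgt ((Coh.Rpush f i).map φ) 0, zero_comp]

end K369.AffDiagAcyc
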