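import Groth.Agent.Perf.K368.TildeAmp
import Groth.Agent.KSix.K239.AmpTrunc
import Groth.Agent.KSix.K239.AmpPush
import Groth.Agent.PerfC.TildePush

/-!
# Relative tor amplitude of `M~` on `Spec A`, stalkwise, for an arbitrary ring map `R → A`

The ring map is factored as `R → R[x_a : a ∈ A] → A`: the first map is flat, the second one is surjective.
-/

set_option autoImplicit false

universe u

open CategoryTheory CategoryTheory.Limits AlgebraicGeometry

attribute [local instance] HasDerivedCategory.standard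

namespace K369.AmpTilde

open Groth.Agent

/-- Restriction of scalars along a composite, on derived categories. -/
theorem restrictD_comp_iso {R P A : Type u} [CommRing R] [CommRing P] [CommRing A] (f : R →+* P)
    (g : P →+* A) (M : Dual.D A) :
    Nonempty ((DRing.restrictD f).obj ((DRing.restrictD g).obj M) ≅ (DRing.restrictD (g.comp f)).obj M) := by
  obtain ⟨K, ⟨e⟩⟩ : ∃ K : DRing.Cx A, Nonempty (DerivedCategory.Q.obj K ≅ M) :=
    ⟨_, ⟨DerivedCategory.Q.objObjPreimageIso M⟩⟩
  have e1 := Flat2C.TorAmpRestr.restrictIso g K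
  have e2 := Flat2C.TorAmpRestr.restrictIso f ((DRing.restrictCx g).obj K)
  have e3 := Flat2C.TorAmpRestr.restrictIso (g.comp f) K
  have e4 : (DRing.restrictCx f).obj ((DRing.restrictCx g).obj K) ≅ (DRing.restrictCx (g.comp f)).obj K :=
    HomologicalComplex.Hom.isoOfComponents (fun i => Iso.refl _) (by
      intro i j _
      exact (Category.id_comp _).trans (Category.comp_id _).symm)
  exact ⟨(DRing.restrictD f).mapIso ((DRing.restrictD g).mapIso e.symm ≪≫ e1) ≪≫ e2 ≪≫
    DerivedCategory.Q.mapIso e4 ≪≫ e3.symm ≪≫ (DRing.restrictD (g.comp f)).mapIso e⟩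

/-- Termwise direct image of `M~` along `Spec A ⟶ Spec P`. -/
theorem push_tilde_iso {P A : CommRingCat.{u}} (g : P ⟶ A)
    [PreservesFiniteLimits (tilde.functor P)] [PreservesFiniteLimits (tilde.functor A)]
    [PreservesFiniteColimits (Scheme.Modules.pushforward (Spec.map g))]
    (M : DerivedCategory (ModuleCat.{u} A)) (F : CochainComplex (Spec A).Modules ℤ)
    (hF : Nonempty (DerivedCategory.Q.obj F ≅ (DCoh.tildeD A).obj M)) :
    Nonempty (DerivedCategory.Q.obj (K239.AmpPush.pushC (Spec.map g) F) ≅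
      (DCoh.tildeD P).obj ((ModuleCat.restrictScalars.{u} g.hom).mapDerivedCategory.obj M)) := by
  obtain ⟨e⟩ := hF
  obtain ⟨K, ⟨eK⟩⟩ : ∃ K : CochainComplex (ModuleCat.{u} A) ℤ,
      Nonempty (DerivedCategory.Q.obj K ≅ M) := ⟨_, ⟨DerivedCategory.Q.objObjPreimageIso M⟩⟩
  let G := Scheme.Modules.pushforward (Spec.map g)
  let T := ((tilde.functor A).mapHomologicalComplex (ComplexShape.up ℤ)).obj K
  have h1 : DerivedCategory.Q.obj F ≅ DerivedCategory.Q.obj T :=
    e ≪≫ (DCoh.tildeD A).mapIso eK.symm ≪≫ (tilde.functor A).mapDerivedCategoryFactors.app K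
  let R := (ModuleCat.restrictScalars.{u} g.hom).mapHomologicalComplex (ComplexShape.up ℤ)
  have h2 : (G.mapHomologicalComplex (ComplexShape.up ℤ)).obj T ≅
      ((tilde.functor P).mapHomologicalComplex (ComplexShape.up ℤ)).obj (R.obj K) :=
    HomologicalComplex.Hom.isoOfComponents (fun i => (PerfC.TildePush.tildePushIso g).app (K.X i)) (by
      intro i j _
      exact ((PerfC.TildePush.tildePushIso g).hom.naturality (K.d i j)).symm)
  have h3 : DerivedCategory.Q.obj (K239.AmpPush.pushC (Spec.map g) F) ≅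
      G.mapDerivedCategory.obj (DerivedCategory.Q.obj F) := G.mapDerivedCategoryFactors.symm.app F
  have h4 : G.mapDerivedCategory.obj (DerivedCategory.Q.obj T) ≅
      DerivedCategory.Q.obj ((G.mapHomologicalComplex (ComplexShape.up ℤ)).obj T) :=
    G.mapDerivedCategoryFactors.app T
  have h5 : DerivedCategory.Q.obj (((tilde.functor P).mapHomologicalComplex (ComplexShape.up ℤ)).obj
      (R.obj K)) ≅ (DCoh.tildeD P).obj (DerivedCategory.Q.obj (R.obj K)) :=
    (tilde.functor P).mapDerivedCategoryFactors.symm.app _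
  have h6 : DerivedCategory.Q.obj (R.obj K) ≅
      (ModuleCat.restrictScalars.{u} g.hom).mapDerivedCategory.obj (DerivedCategory.Q.obj K) :=
    (ModuleCat.restrictScalars.{u} g.hom).mapDerivedCategoryFactors.symm.app K
  exact ⟨h3 ≪≫ G.mapDerivedCategory.mapIso h1 ≪≫ h4 ≪≫ DerivedCategory.Q.mapIso h2 ≪≫ h5 ≪≫
    (DCoh.tildeD P).mapIso (h6 ≪≫ (ModuleCat.restrictScalars.{u} g.hom).mapDerivedCategory.mapIso eK)⟩

end K369.AmpTilde
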