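import Groth.Agent.PerfC.ApproxAffine2
import Groth.Agent.PerfC.ApproxExt

/-!
# Approximation by perfect complexes on affine schemes: explicit form

Version of `PerfC.ApproxAffine` with the sharper hypotheses (`m`-pseudo-coherent, supports in degrees
`≥ m - r + 1`), and the passage from the "morphism form" of the approximation property to the "cone form".
-/

set_option autoImplicit false
universe u
open CategoryTheory CategoryTheory.Limits AlgebraicGeometry Pretriangulated
attribute [local instance] HasDerivedCategory.standard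

namespace K369.ApproxA
open Groth.Agent.PerfA.Restrict Groth.Agent.PerfA Groth.Agent.PerfC.Supp Groth.Agent.PerfC
open Groth.Agent.PerfC.PerfLocal Groth.Agent.PerfC.KosFactor Groth.Agent.PerfC.Approx
open Groth.Agent.PerfA.TildeSupp Groth.Agent.CohqB Groth.Agent.PerfC.ApproxAffine
open Groth.Agent.PerfC.PcLocal AlgebraicGeometry.Scheme.Modules
open Groth.Agent.PerfC.ApproxAffine2

variable {X Y : Scheme.{u}}

/-- The morphism form of the approximation property implies the cone form. -/
lemma app_of_out {T : Set X} {E : DCoh.D X} {m : ℤ}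
    (H : ∃ (P : DCoh.D X) (α : P ⟶ E), DCoh.IsPerfect P ∧
      (∀ i : ℤ, CohB1.support (DCoh.HD P i) ⊆ T) ∧
      (∀ i : ℤ, m < i → IsIso ((DerivedCategory.homologyFunctor X.Modules i).map α)) ∧
        Epi ((DerivedCategory.homologyFunctor X.Modules m).map α)) : App T E m := by
  obtain ⟨P, α, hP, hs, h1, h2⟩ := H
  obtain ⟨C, g, h, hT⟩ := distinguished_cocone_triangle α
  refine ⟨P, C, α, g, h, hT, hP, hs, fun i hi => ?_⟩
  have he : Epi ((DerivedCategory.homologyFunctor X.Modules i).map α) := by
    rcases hi.eq_or_lt with rfl | hi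
    · exact h2
    · have := h1 i hi
      infer_instance
  have hm : Mono ((DerivedCategory.homologyFunctor X.Modules (i + 1)).map α) := by
    have := h1 (i + 1) (by lia)
    infer_instance
  exact (DerivedCategory.HomologySequence.exact₃ _ hT i (i + 1) rfl).isZero_of_both_zeros
    ((DerivedCategory.HomologySequence.epi_homologyMap_mor₁_iff _ hT i).1 he)
    ((DerivedCategory.HomologySequence.mono_homologyMap_mor₁_iff _ hT i (i + 1) rfl).1 hm)

variable {R : CommRingCat.{u}}

theorem approx_tD' (l : List R) (m : ℤ) (k : ℕ) : ∀ (M : Dual.D R),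
    DCoh.IsPseudoCoherentD m ((tD R).obj M) →
    (∀ i : ℤ, m + k ≤ i → IsZero ((DerivedCategory.homologyFunctor (ModuleCat.{u} R) i).obj M)) →
    (∀ f ∈ l, ∀ i : ℤ, m - l.length + 1 ≤ i → Tors f M i) → App (ZL l) ((tD R).obj M) m := by
  induction k with
  | zero =>
    intro M _ h0 _
    exact app_of_isZero fun i hi => isZero_HD_tD (h0 i (by simpa using hi))
  | succ k ih =>
    -- inner induction on the number of generators of the top cohomology
    have key : ∀ (N : ℕ) (M : Dual.D R),
        DCoh.IsPseudoCoherentD m ((tD R).obj M) →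
        (∀ i : ℤ, m + k < i → IsZero ((DerivedCategory.homologyFunctor (ModuleCat.{u} R) i).obj M)) →
        (∀ f ∈ l, ∀ i : ℤ, m - l.length + 1 ≤ i → Tors f M i) →
        (∃ s : Fin N → (DerivedCategory.homologyFunctor (ModuleCat.{u} R) (m + k)).obj M,
          Submodule.span R (Set.range s) = ⊤) → App (ZL l) ((tD R).obj M) m := by
      intro N
      induction N with
      | zero =>
        rintro M hpc h0 ht ⟨s, hs⟩
        refine ih M hpc (fun i hi => ?_) ht
        rcases hi.eq_or_lt with rfl | hi
        · refine @ModuleCat.isZero_of_subsingleton _ _ _ ?_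
          rw [Set.range_eq_empty, Submodule.span_empty] at hs
          exact (Submodule.subsingleton_iff R).1 (subsingleton_iff_bot_eq_top.1 hs)
        · exact h0 i hi
      | succ N ihN =>
        rintro M hpc h0 ht ⟨s, hs⟩
        obtain ⟨Q, b, y, hy, hQ, hQt, hQ0⟩ := exists_factor_shift l M (m + k)
          (fun f hf i hi _ => ht f hf i (by lia)) (s 0)
        obtain ⟨M', g, h, hT⟩ := distinguished_cocone_triangle b
        refine App.of_cone ((tD R).map_distinguished _ hT) hQ
          (fun i => (supp_subset_iff l Q i).2 fun f hf => hQt f hf i) (ihN M' ?_ ?_ ?_ ?_)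
        · exact (Groth.Agent.S0889.result _ _ ((tD R).map_distinguished _ hT)).1
            (pc_of_perf hQ _) hpc
        · intro i hi
          exact (DerivedCategory.HomologySequence.exact₃ _ hT i (i + 1) rfl).isZero_of_both_zeros
            ((h0 i hi).eq_of_src _ _) ((hQ0 (i + 1) (by lia)).eq_of_tgt _ _)
        · intro f hf i hi
          exact tors_obj₃ _ hT i (i + 1) rfl (ht f hf i hi) (hQt f hf _)
        · let Hk := DerivedCategory.homologyFunctor (ModuleCat.{u} R) (m + k)
          have hsurj : Function.Surjective (Hk.map g) := by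
            refine (ModuleCat.epi_iff_surjective _).1 ?_
            exact (DerivedCategory.HomologySequence.epi_homologyMap_mor₂_iff _ hT (m + k)
              (m + k + 1) rfl).2 ((hQ0 _ (by lia)).eq_of_tgt _ _)
          refine ⟨fun j => Hk.map g (s j.succ), ?_⟩
          have h1 : (Submodule.span R (Set.range s)).map (Hk.map g).hom = ⊤ := by
            rw [hs, Submodule.map_top, LinearMap.range_eq_top]
            exact hsurj
          rw [eq_top_iff, ← h1, Submodule.map_span, Submodule.span_le]
          rintro _ ⟨_, ⟨j, rfl⟩, rfl⟩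
          refine Fin.cases ?_ (fun j => ?_) j
          · have h2 : Hk.map g (s 0) = 0 := by
              rw [← hy]
              change (Hk.map b ≫ Hk.map g) y = 0
              have h3 : b ≫ g = 0 := comp_distTriang_mor_zero₁₂ _ hT
              rw [← Functor.map_comp, h3, Functor.map_zero]
              rfl
            change Hk.map g (s 0) ∈ _
            rw [h2]
            exact Submodule.zero_mem _
          · exact Submodule.subset_span ⟨j, rfl⟩
    intro M hpc h0 ht
    have h0' : ∀ i : ℤ, m + k < i →
        IsZero ((DerivedCategory.homologyFunctor (ModuleCat.{u} R) i).obj M) := fun i hi =>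
      h0 i (by push_cast; lia)
    have hft : CohB1.IsFT (DCoh.HD ((tD R).obj M) (m + k)) :=
      (Groth.Agent.S0890.result (m + k) _
        (PcLocal.pc_mono (by lia) hpc)).1 fun i hi => isZero_HD_tD (h0' i hi)
    have hfin : Module.Finite R
        ((DerivedCategory.homologyFunctor (ModuleCat.{u} R) (m + k)).obj M) :=
      Groth.Agent.Ega1.FTAffine.finite_of_isFiniteType _ (HDtilde M (m + k)) hft
    obtain ⟨N, s, hs⟩ := Module.Finite.exists_fin (R := R)
      (M := (DerivedCategory.homologyFunctor (ModuleCat.{u} R) (m + k)).obj M)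
    exact key N M hpc h0' ht ⟨s, hs⟩

theorem app_spec (l : List R) (m : ℤ) (E : DCoh.D (Spec R)) (hQ : DCoh.IsQCohD E)
    (hpc : DCoh.IsPseudoCoherentD m E)
    (hs : ∀ i : ℤ, m - l.length + 1 ≤ i → supp E i ⊆ ZL l) : App (ZL l) E m := by
  obtain ⟨M, ⟨e⟩⟩ := ((Groth.Agent.S0997.result R).2.2 E).1 hQ
  obtain ⟨b, hb⟩ := exists_bound_of_pc hpc
  refine App.of_iso e (approx_tD' l m (b + 1 - m).toNat M (pc_of_iso e.symm hpc) ?_ ?_)
  · intro i hi
    have h1 : IsZero ((tilde.functor R).obj
        ((DerivedCategory.homologyFunctor (ModuleCat.{u} R) i).obj M)) :=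
      (hb i (by lia)).of_iso ((HDtilde M i).symm ≪≫
        (DerivedCategory.homologyFunctor _ i).mapIso e)
    rw [IsZero.iff_id_eq_zero] at h1 ⊢
    apply (tilde.functor R).map_injective
    rw [CategoryTheory.Functor.map_id, h1, Functor.map_zero]
  · intro f hf i hi
    refine (supp_subset_iff l M i).1 ?_ f hf
    have h1 := hs i hi
    rwa [supp_congr e.symm i] at h1

theorem app_affine [IsAffine X] (fs : Finset Γ(X, ⊤)) (m : ℤ) (E : DCoh.D X)
    (hq : DCoh.IsQCohD E) (hpc : DCoh.IsPseudoCoherentD m E)
    (hsupp : ∀ i : ℤ, m - (fs.card : ℤ) + 1 ≤ i →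
      supp E i ⊆ X.zeroLocus (U := ⊤) (↑fs : Set Γ(X, ⊤))) :
    App (X.zeroLocus (U := ⊤) (↑fs : Set Γ(X, ⊤))) E m := by
  let e : X ⟶ Spec Γ(X, ⊤) := X.isoSpec.hom
  have hpre : e ⁻¹' (ZL fs.toList : Set (Spec Γ(X, ⊤))) =
      X.zeroLocus (U := ⊤) (↑fs : Set Γ(X, ⊤)) := by
    have h1 := X.toSpecΓ_preimage_zeroLocus (↑fs : Set Γ(X, ⊤))
    rw [← h1]
    have h2 : ({a | a ∈ fs.toList} : Set Γ(X, ⊤)) = (↑fs : Set Γ(X, ⊤)) := by
      ext a; simp
    change e ⁻¹' (PrimeSpectrum.zeroLocus {a | a ∈ fs.toList}) = _
    rw [h2]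
    rfl
  rw [← hpre] at hsupp ⊢
  refine App.of_iso (restrictInvIso e E) (App.restrict e (app_spec fs.toList m _
    (isQCohD_restrictD _ hq) (pc_restrict _ hpc) fun i hi => ?_))
  rw [supp_restrictD]
  intro x hx
  have h1 := hsupp i (by simpa using hi) hx
  have h2 : e ((inv e) x) = x := by
    change ((inv e) ≫ e) x = x
    rw [IsIso.inv_hom_id]; rfl
  rwa [Set.mem_preimage, h2] at h1

end K369.ApproxA
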