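import Groth.Agent.PerfC.ApproxStep
import Groth.Agent.Perf.K369.ApproxA
import Mathlib.Topology.Constructible

/-!
# The induction step for approximation by perfect complexes, without quasi-separatedness
-/

set_option autoImplicit false
universe u
open CategoryTheory CategoryTheory.Limits AlgebraicGeometry Pretriangulated
attribute [local instance] HasDerivedCategory.standard

namespace K369.ApproxB
open Groth.Agent.PerfA.Restrict Groth.Agent.PerfA Groth.Agent.PerfC.Supp Groth.Agent.PerfC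
open Groth.Agent.PerfC.PcLocal AlgebraicGeometry.Scheme.Modules Groth.Agent.PerfC.ExtZeroD
open Groth.Agent.PerfC.PerfLocal Groth.Agent.PerfC.MV Groth.Agent.PerfC.Excision
open Groth.Agent.PerfC.LiftStep Groth.Agent.PerfC.Approx Groth.Agent.PerfC.ApproxAffine2
open Groth.Agent.PerfC.ApproxStep

section
variable {X U V W : Scheme.{u}} {jU : U ⟶ X} [IsOpenImmersion jU] {jV : V ⟶ X} [IsOpenImmersion jV]
  {wU : W ⟶ U} {wV : W ⟶ V} [IsOpenImmersion wU] [IsOpenImmersion wV]
  (e : wU ≫ jU = wV ≫ jV)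

include e in
/-- The gluing step: if `X = U ∪ V` and `U ∩ V ⟶ V` has the strong lifting property then `U ⟶ X` has it for the
closed subsets whose complement is quasi-compact in `V`. -/
theorem lift_of_cover
    (hcov : Set.range jU ∪ Set.range jV = Set.univ)
    (hW : Set.range jU ∩ Set.range jV ⊆ Set.range (wU ≫ jU)) (h : StrongLift wV)
    (T : Set X) (hT : IsClosed T) (hTV : IsCompact (jV ⁻¹' T)ᶜ) (E : DCoh.D X)
    (hE : DCoh.IsQCohD E) (P : DCoh.D U) (hP : DCoh.IsPerfect P) (hPT : suppP (jU ⁻¹' T) P)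
    (α : P ⟶ (restrictD jU).obj E) :
    ∃ (R : DCoh.D X) (β : R ⟶ E) (e : (restrictD jU).obj R ≅ P ⊞ P⟦(1 : ℤ)⟧),
      DCoh.IsPerfect R ∧ suppP T R ∧ (restrictD jU).map β = e.hom ≫ biprod.fst ≫ α := by
  let sq := restrictDSquare e
  have hpre : wV ⁻¹' (jV ⁻¹' T) = wU ⁻¹' (jU ⁻¹' T) := by
    ext x
    change (wV ≫ jV) x ∈ T ↔ (wU ≫ jU) x ∈ T
    rw [e]
  -- lift over `V`
  obtain ⟨Q, βV, eQ, hQ, hQT, hβV⟩ := h (jV ⁻¹' T) (hT.preimage jV.continuous)
    hTV
    ((restrictD jV).obj E) (QCohD.isQCohD_restrictD jV hE) ((restrictD wU).obj P)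
    (perf_restrict wU hP) (hpre ▸ suppP_restrictD wU hPT) ((restrictD wU).map α ≫ sq.hom.app E)
  -- glue
  obtain ⟨m, hm⟩ := exists_mapBiprodShift (restrictD wU) P
  obtain ⟨R, a, b, hab⟩ := exists_glue_obj e hW (P ⊞ P⟦(1 : ℤ)⟧) Q (m ≪≫ eQ.symm).hom
  have hagree : Agree e (K := R) (G := E) (a.inv ≫ biprod.fst ≫ α) (b.inv ≫ βV) := by
    dsimp only [Agree]
    rw [← cancel_epi ((restrictD wU).map a.hom), ← Category.assoc ((restrictD wU).map a.hom),
      ← Functor.map_comp, a.hom_inv_id_assoc, reassoc_of% hab, ← Functor.map_comp,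
      b.hom_inv_id_assoc, hβV]
    simp only [Iso.trans_hom, Iso.symm_hom, Category.assoc, Iso.inv_hom_id_assoc, Functor.map_comp]
    rw [reassoc_of% hm]
  obtain ⟨β, hβU, hβV'⟩ := exists_glue_hom e hcov hW _ _ hagree
  refine ⟨R, β, a.symm, ?_, ?_, hβU⟩
  · refine perf_of_cover R fun x => ?_
    have hx : x ∈ Set.range jU ∪ Set.range jV := hcov ▸ Set.mem_univ x
    rcases hx with ⟨y, rfl⟩ | ⟨y, rfl⟩
    · refine ⟨U, jU, inferInstance, y, rfl, perf_of_iso a ?_⟩
      exact prop_biprod (PerfTri.perf U) hP (perf_shift hP 1)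
    · exact ⟨V, jV, inferInstance, y, rfl, perf_of_iso b hQ⟩
  · intro i x hx
    have hx' : x ∈ Set.range jU ∪ Set.range jV := hcov ▸ Set.mem_univ x
    rcases hx' with ⟨y, rfl⟩ | ⟨y, rfl⟩
    · exact prop_biprod (suppP (jU ⁻¹' T)) hPT (suppP_shift hPT 1) i
        ((supp_congr a i).trans (supp_restrictD jU R i) ▸ hx : y ∈ supp (P ⊞ P⟦(1 : ℤ)⟧) i)
    · exact hQT i ((supp_congr b i).trans (supp_restrictD jV R i) ▸ hx : y ∈ supp Q i)

end

variable {X : Scheme.{u}}

theorem lift_opens (U V : X.Opens) (hUV : U ⊔ V = ⊤)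
    (hV : IsAffineOpen V) (hc : IsCompact ((U ⊓ V : X.Opens) : Set X))
    (T : Set X) (hT : IsClosed T) (hTV : IsCompact (V.ι ⁻¹' T)ᶜ) (E : DCoh.D X)
    (hE : DCoh.IsQCohD E) (P : DCoh.D (U : Scheme.{u})) (hP : DCoh.IsPerfect P)
    (hPT : suppP (U.ι ⁻¹' T) P)
    (α : P ⟶ (restrictD U.ι).obj E) :
    ∃ (R : DCoh.D X) (β : R ⟶ E) (e : (restrictD U.ι).obj R ≅ P ⊞ P⟦(1 : ℤ)⟧),
      DCoh.IsPerfect R ∧ suppP T R ∧ (restrictD U.ι).map β = e.hom ≫ biprod.fst ≫ α := by
  have hVa : IsAffine (V : Scheme.{u}) := hV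
  let W : (V : Scheme.{u}).Opens := V.ι ⁻¹ᵁ U
  have hWr : Set.range (W.ι ≫ V.ι) = ((U ⊓ V : X.Opens) : Set X) := by
    have h1 : Set.range W.ι = V.ι ⁻¹' (U : Set X) := Scheme.Opens.range_ι W
    rw [Scheme.Hom.comp_base, TopCat.coe_comp, Set.range_comp]
    refine (congr_arg (V.ι '' ·) h1).trans ?_
    refine Set.image_preimage_eq_inter_range.trans ?_
    rw [Scheme.Opens.range_ι]
    rfl
  have hW : IsCompact (W : Set (V : Scheme.{u})) := by
    rw [V.ι.isOpenEmbedding.isInducing.isCompact_iff]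
    have h4 : V.ι '' (W : Set (V : Scheme.{u})) = ((U ⊓ V : X.Opens) : Set X) := by
      refine (Set.image_preimage_eq_inter_range (f := V.ι) (t := (U : Set X))).trans ?_
      rw [Scheme.Opens.range_ι]
      rfl
    rw [h4]
    exact hc
  have hsub : Set.range (W.ι ≫ V.ι) ⊆ Set.range U.ι := by
    rw [hWr, Scheme.Opens.range_ι]
    exact Set.inter_subset_left
  let wU : (W : Scheme.{u}) ⟶ U := IsOpenImmersion.lift U.ι (W.ι ≫ V.ι) hsub
  have e : wU ≫ U.ι = W.ι ≫ V.ι := IsOpenImmersion.lift_fac _ _ _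
  have hopen : IsOpenImmersion (wU ≫ U.ι) := by rw [e]; infer_instance
  have hwU : IsOpenImmersion wU := IsOpenImmersion.of_comp wU U.ι
  refine lift_of_cover e ?_ ?_ (strongLift_affine (V : Scheme.{u}) W hW) T hT hTV E hE P hP hPT α
  · rw [Scheme.Opens.range_ι, Scheme.Opens.range_ι]
    exact congr_arg (fun W : X.Opens => (W : Set X)) hUV
  · rw [e, hWr, Scheme.Opens.range_ι, Scheme.Opens.range_ι]
    exact subset_rfl

theorem step (U V : X.Opens) (hUV : U ⊔ V = ⊤)
    (hU : IsCompact (U : Set X)) (hV : IsAffineOpen V) (hc : IsCompact ((U ⊓ V : X.Opens) : Set X))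
    (T : Set X) (hT : IsClosed T) (hTV : IsCompact (V.ι ⁻¹' T)ᶜ) (rU rV : ℤ) (hU0 : 0 ≤ rU)
    (hV0 : 0 ≤ rV)
    (hrU : AppR (U : Scheme.{u}) (U.ι ⁻¹' T) rU)
    (hrV : AppR (V : Scheme.{u}) (V.ι ⁻¹' (T ∩ (U : Set X)ᶜ)) rV) :
    AppR X T (rU + rV) := by
  intro m E hQ hpc hs
  have hcpt : CompactSpace (U : Scheme.{u}) := isCompact_iff_compactSpace.1 hU
  obtain ⟨b, hb⟩ := exists_bound_of_pc (pc_restrict U.ι hpc)
  have key : ∀ (N : ℕ) (E : DCoh.D X), DCoh.IsQCohD E →
      DCoh.IsPseudoCoherentD (m - (rU + rV)) E →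
      (∀ i : ℤ, m - (rU + rV) ≤ i → supp E i ⊆ T) →
      (∀ i : ℤ, m - rV + N ≤ i → IsZero (DCoh.HD ((restrictD U.ι).obj E) i)) → App T E m := by
    intro N
    induction N with
    | zero =>
      intro E hQ hpc hs h0
      have hE : ∀ i : ℤ, m - rV ≤ i → supp E i ⊆ T ∩ (U : Set X)ᶜ := by
        intro i hi x hx
        refine ⟨hs i (by lia) hx, fun hxU => ?_⟩
        have h1 := (supp_eq_empty_iff _ i).2 (h0 i (by simpa using hi))
        rw [supp_restrictD] at h1
        have h2 : (⟨x, hxU⟩ : U) ∈ U.ι ⁻¹' supp E i := hx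
        rw [h1] at h2
        exact h2
      refine App.mono_set Set.inter_subset_left (ApproxExt.App.extend V.ι
        (hT.inter U.isOpen.isClosed_compl) ?_ (fun i hi => hE i (by lia))
        (hrV m _ (isQCohD_restrictD _ hQ) (pc_mono (by lia) (pc_restrict _ hpc)) ?_))
      · rintro x ⟨-, hxU⟩
        have : x ∈ (U ⊔ V : X.Opens) := by rw [hUV]; trivial
        rcases this with h | h
        · exact absurd h hxU
        · exact ⟨⟨x, h⟩, rfl⟩
      · intro i hi
        rw [supp_restrictD]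
        exact Set.preimage_mono (hE i hi)
    | succ N ih =>
      intro E hQ hpc hs h0
      obtain ⟨P, C, α, g, k, hTr, hP, hPs, hC⟩ := hrU (m - rV) ((restrictD U.ι).obj E)
        (isQCohD_restrictD _ hQ)
        (pc_mono (by lia) (pc_restrict _ hpc)) (fun i hi => by
          rw [supp_restrictD]
          exact Set.preimage_mono (hs i (by lia)))
      obtain ⟨R, β, e, hR, hRs, hβ⟩ := lift_opens U V hUV hV hc T hT hTV E hQ P
        hP hPs α
      obtain ⟨E', g', k', hT'⟩ := distinguished_cocone_triangle β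
      refine App.of_cone hT' hR hRs (ih E' ?_ ?_ ?_ ?_)
      · exact QCohD.isQCohD_ext₃ _ hT' (QCohD.isQCohD_of_isPerfect R hR) hQ
      · exact (Groth.Agent.S0889.result _ _ hT').1 (pc_of_perf hR _) hpc
      · intro i hi
        exact (supp_obj₃ _ hT' i (i + 1) rfl).trans
          (Set.union_subset (hs i hi) (hRs _))
      · intro i hi
        have hP0 : ∀ j : ℤ, m - rV + N + 1 ≤ j → IsZero (DCoh.HD P j) := fun j hj =>
          (DerivedCategory.HomologySequence.exact₁ _ hTr (j - 1) j (by lia)).isZero_of_both_zeros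
            ((hC (j - 1) (by lia)).eq_of_src _ _) ((h0 j (by push_cast; lia)).eq_of_tgt _ _)
        have hR0 : IsZero (DCoh.HD ((restrictD U.ι).obj R) (i + 1)) := by
          refine IsZero.of_iso ?_ ((DerivedCategory.homologyFunctor _ (i + 1)).mapIso e)
          exact isZero_HD_biprod (hP0 _ (by lia))
            ((hP0 (i + 2) (by lia)).of_iso (HDshift P 1 (i + 1) (i + 2) (by lia)))
        have hT2 := (restrictD U.ι).map_distinguished _ hT'
        have hepi : Epi ((DerivedCategory.homologyFunctor _ i).map ((restrictD U.ι).map β)) := by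
          have h1 : Epi ((DerivedCategory.homologyFunctor _ i).map α) :=
            (DerivedCategory.HomologySequence.epi_homologyMap_mor₁_iff _ hTr i).2
              ((hC i (by lia)).eq_of_tgt _ _)
          have h2 : (restrictD U.ι).map β = e.hom ≫ biprod.fst ≫ α := hβ
          rw [h2, Functor.map_comp, Functor.map_comp]
          infer_instance
        refine (DerivedCategory.HomologySequence.exact₃ _ hT2 i (i + 1) rfl).isZero_of_both_zeros
          ?_ (hR0.eq_of_tgt _ _)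
        exact (DerivedCategory.HomologySequence.epi_homologyMap_mor₁_iff _ hT2 i).1 hepi
  refine key (b + 1 - (m - rV)).toNat E hQ hpc hs fun i hi => hb i (by lia)

/-- `AppR` for `r` implies `AppR` for all larger integers. -/
lemma appR_mono {T : Set X} {r r' : ℤ} (h : r ≤ r') (H : AppR X T r) : AppR X T r' :=
  fun m E hQ hpc hs => H m E hQ (pc_mono (by lia) hpc) fun i hi => hs i (by lia)

end K369.ApproxB
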