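import Groth.Agent.Dual.H323.PerfPush
import Groth.Agent.S1002
import Groth.Agent.PerfC.LpullFlat
import Groth.Agent.PerfC.FlatExact
import Groth.Agent.PerfB.TildeExact
import Groth.Agent.PerfA.TildeMain

/-!
# Corepresentability of `Hom(P, Lf^* -)` on `D_QCoh`

`f : X ⟶ Y` quasi-compact and quasi-separated, `P` perfect on `X` such that `Rf_*` preserves perfect objects.
Then `K ↦ Hom(P, Lf^* K)` is corepresentable on `D_QCoh(Y)` by a perfect object.
-/

set_option autoImplicit false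

universe u v v' w

open CategoryTheory Limits MonoidalCategory AlgebraicGeometry
attribute [local instance] HasDerivedCategory.standard

open scoped Groth.Agent.Dcoh.MonCat Groth.Agent.Dcoh.ModD

namespace K369.Corep

open Groth.Agent Groth.Agent.Dcoh Groth.Agent.Dcoh.ModD Groth.Agent.Dual.H323.PerfPush

section Abstract

variable {C : Type u} [Category.{v} C] {D : Type w} [Category.{v'} D] (g : C ⥤ D) (Q : C → Prop)

/-- A universal arrow `x : P ⟶ g B` relative to the objects satisfying `Q`. -/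
def IsUnivArrow {P : D} {B : C} (x : P ⟶ g.obj B) : Prop :=
  ∀ K : C, Q K → Function.Bijective (fun φ : B ⟶ K => x ≫ g.map φ)

variable {g Q}

lemma IsUnivArrow.of_bij {P : D} {B : C} (F : ∀ K : C, (B ⟶ K) → (P ⟶ g.obj K))
    (hF : ∀ K, Q K → Function.Bijective (F K))
    (nat : ∀ (K K' : C) (φ : B ⟶ K) (v : K ⟶ K'), F K' (φ ≫ v) = F K φ ≫ g.map v) :
    IsUnivArrow g Q (F B (𝟙 B)) := by
  intro K hK
  convert hF K hK using 2 with φ
  rw [← nat, Category.id_comp]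

end Abstract

variable {X Y : Scheme.{u}} (f : X ⟶ Y) [QuasiCompact f] [QuasiSeparated f]

/-- `K ↦ Hom(P, Lf^* K)` is corepresentable on `D_QCoh(Y)`, if `P` is perfect and `Rf_*` preserves perfect
objects. -/
theorem exists_univArrow [DCoh.HasRpush f] [DCoh.HasLpull f]
    (hf : ∀ E : DCoh.D X, DCoh.IsPerfect E → DCoh.IsPerfect ((DCoh.Rpush f).obj E))
    (P : DCoh.D X) (hP : DCoh.IsPerfect P) :
    ∃ (B : DCoh.D Y) (_ : DCoh.IsQCohD B) (x : P ⟶ (DCoh.Lpull f).obj B),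
      IsUnivArrow (DCoh.Lpull f) DCoh.IsQCohD x := by
  obtain ⟨V, hV, ⟨hVP⟩⟩ := exists_leftDual P hP
  obtain ⟨W, hW, ⟨hVW⟩⟩ := PerfDual.exists_exactPairing ((DCoh.Rpush f).obj V) (hf V hV)
  obtain ⟨t, ht⟩ := exists_proj f V (PerfA.PCohQCoh.isQCohD_of_isPerfect hV)
  let _ := Dcoh.MonPull.monPull f
  let _ : (DCoh.Lpull f).Monoidal := Dcoh.MonLpull182.lpullMonoidal f
  let adj := DerPull.lpullAdj f
  let F : ∀ K : DCoh.D Y, (W ⊗ 𝟙_ (DCoh.D Y) ⟶ K) → (P ⟶ (DCoh.Lpull f).obj K) := fun K φ =>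
    (ρ_ P).inv ≫ (tensorLeftHomEquiv (𝟙_ (DCoh.D X)) V P ((DCoh.Lpull f).obj K)).symm
      ((Functor.Monoidal.εIso (DCoh.Lpull f)).hom ≫
        (adj.homEquiv (𝟙_ (DCoh.D Y)) (V ⊗ (DCoh.Lpull f).obj K)).symm
          ((tensorLeftHomEquiv (𝟙_ (DCoh.D Y)) ((DCoh.Rpush f).obj V) W K) φ ≫ t.app K))
  refine ⟨W ⊗ 𝟙_ (DCoh.D Y), isQCohD_tensor (PerfA.PCohQCoh.isQCohD_of_isPerfect hW) (isQCohD_unit Y),
    F _ (𝟙 _), IsUnivArrow.of_bij F (fun K hK => ?_) (fun K K' φ v => ?_)⟩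
  · have := ht K hK
    have h1 : Function.Bijective (fun g : P ⊗ 𝟙_ (DCoh.D X) ⟶ (DCoh.Lpull f).obj K => (ρ_ P).inv ≫ g) :=
      ((ρ_ P).homFromEquiv (Z := (DCoh.Lpull f).obj K)).bijective
    have h2 := (tensorLeftHomEquiv (𝟙_ (DCoh.D X)) V P ((DCoh.Lpull f).obj K)).symm.bijective
    have h3 : Function.Bijective (fun g : (DCoh.Lpull f).obj (𝟙_ (DCoh.D Y)) ⟶ V ⊗ (DCoh.Lpull f).obj K =>
        (Functor.Monoidal.εIso (DCoh.Lpull f)).hom ≫ g) :=
      ((Functor.Monoidal.εIso (DCoh.Lpull f)).symm.homFromEquiv (Z := V ⊗ (DCoh.Lpull f).obj K)).bijective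
    have h4 := (adj.homEquiv (𝟙_ (DCoh.D Y)) (V ⊗ (DCoh.Lpull f).obj K)).symm.bijective
    have h5 : Function.Bijective (fun g : 𝟙_ (DCoh.D Y) ⟶ (DCoh.Rpush f).obj V ⊗ K => g ≫ t.app K) :=
      ((asIso (t.app K)).homToEquiv (Z := 𝟙_ (DCoh.D Y))).bijective
    have h6 := (tensorLeftHomEquiv (𝟙_ (DCoh.D Y)) ((DCoh.Rpush f).obj V) W K).bijective
    exact h1.comp (h2.comp (h3.comp (h4.comp (h5.comp h6))))
  · have h1 : (DCoh.Rpush f).obj V ◁ v ≫ t.app K' =
        t.app K ≫ (DCoh.Rpush f).map (V ◁ (DCoh.Lpull f).map v) := t.naturality v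
    have h2 : ∀ a : P ⊗ 𝟙_ (DCoh.D X) ⟶ (DCoh.Lpull f).obj K,
        tensorLeftHomEquiv (𝟙_ (DCoh.D X)) V P ((DCoh.Lpull f).obj K') (a ≫ (DCoh.Lpull f).map v) =
        tensorLeftHomEquiv (𝟙_ (DCoh.D X)) V P ((DCoh.Lpull f).obj K) a ≫ V ◁ (DCoh.Lpull f).map v :=
      fun a => tensorLeftHomEquiv_naturality a _
    have h3 : ∀ b : 𝟙_ (DCoh.D X) ⟶ V ⊗ (DCoh.Lpull f).obj K,
        (tensorLeftHomEquiv (𝟙_ (DCoh.D X)) V P ((DCoh.Lpull f).obj K')).symm
          (b ≫ V ◁ (DCoh.Lpull f).map v) =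
        (tensorLeftHomEquiv (𝟙_ (DCoh.D X)) V P ((DCoh.Lpull f).obj K)).symm b ≫
          (DCoh.Lpull f).map v := by
      intro b
      rw [Equiv.symm_apply_eq, h2, Equiv.apply_symm_apply]
    dsimp only [F]
    rw [tensorLeftHomEquiv_naturality, Category.assoc, h1, ← Category.assoc _ (t.app K),
      adj.homEquiv_naturality_right_symm, ← Category.assoc _ _ (V ◁ (DCoh.Lpull f).map v), h3,
      Category.assoc]
    rfl

/-- Corepresentability of `M ↦ Hom(P, f^* M~)` on `D(R)`, for `f` flat. -/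
theorem exists_univArrow_tilde (R : CommRingCat.{u}) [PreservesFiniteLimits (tilde.functor R)]
    {X : Scheme.{u}} (f : X ⟶ Spec R) [QuasiCompact f] [QuasiSeparated f] [DCoh.HasRpush f]
    [PreservesFiniteLimits (Scheme.Modules.pullback f)]
    (hf : ∀ E : DCoh.D X, DCoh.IsPerfect E → DCoh.IsPerfect ((DCoh.Rpush f).obj E))
    (P : DCoh.D X) (hP : DCoh.IsPerfect P) :
    ∃ (B : DerivedCategory (ModuleCat.{u} R))
      (x : P ⟶ ((tilde.functor R).mapDerivedCategory ⋙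
        (Scheme.Modules.pullback f).mapDerivedCategory).obj B),
      IsUnivArrow ((tilde.functor R).mapDerivedCategory ⋙
        (Scheme.Modules.pullback f).mapDerivedCategory) (fun _ => True) x := by
  have := PerfC.LpullFlat.hasLpull f
  obtain ⟨B', hB', x', hx'⟩ := exists_univArrow f hf P hP
  obtain ⟨B, ⟨e⟩⟩ := PerfA.TildeMain.exists_iso R B' hB'
  let s := PerfC.LpullFlat.lpullIso f
  refine ⟨B, x' ≫ (DCoh.Lpull f).map e.inv ≫ s.hom.app _, fun K _ => ?_⟩
  have h1 := PerfA.TildeMain.bijective_map R B K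
  have h2 : Function.Bijective (fun φ : (tilde.functor R).mapDerivedCategory.obj B ⟶
      (tilde.functor R).mapDerivedCategory.obj K => e.inv ≫ φ) :=
    (e.homFromEquiv (Z := (tilde.functor R).mapDerivedCategory.obj K)).bijective
  have h3 := hx' _ (PerfA.TildeMain.isQCohD_map R K)
  have h4 : Function.Bijective (fun φ : P ⟶ (DCoh.Lpull f).obj
      ((tilde.functor R).mapDerivedCategory.obj K) => φ ≫ s.hom.app _) :=
    ((s.app ((tilde.functor R).mapDerivedCategory.obj K)).homToEquiv (Z := P)).bijective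
  have h5 := h4.comp (h3.comp (h2.comp h1))
  convert h5 using 2 with φ
  simp only [Function.comp_apply, Functor.map_comp, Category.assoc, Functor.comp_map]
  rw [s.hom.naturality]

end K369.Corep
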