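import Groth.Agent.Perf.K369.RlimHeart
import Groth.Agent.Perf.K369.Corep
import Groth.Agent.PerfA.QCLim
import Groth.Agent.PerfB.HomBijOn

/-!
# Comparison of derived limits along a functor with corepresentable `Hom(P, g -)`
-/

set_option autoImplicit false

universe u v₁ v₂ u₁ u₂

open CategoryTheory Category Limits Pretriangulated AlgebraicGeometry
attribute [local instance] HasDerivedCategory.standard

namespace K369.CorepMilnor

open Groth.Agent Groth.Agent.PerfA.PostTower Groth.Agent.PerfA.Milnor Groth.Agent.PerfB Corep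

section Five

variable {D : Type u₁} [Category.{v₁} D] [Preadditive D] [HasZeroObject D] [HasShift D ℤ]
  [∀ n : ℤ, (shiftFunctor D n).Additive] [Pretriangulated D]

/-- Five lemma for `Hom(P, -)`. -/
lemma bijective_five {T T' : Triangle D} (hT : T ∈ distTriang D) (hT' : T' ∈ distTriang D) (φ : T ⟶ T')
    (P : D) (h2 : Function.Bijective (fun x : P ⟶ T.obj₂ => x ≫ φ.hom₂))
    (h2' : Function.Surjective (fun x : P⟦(1 : ℤ)⟧ ⟶ T.obj₂ => x ≫ φ.hom₂))
    (h3 : Function.Injective (fun x : P ⟶ T.obj₃ => x ≫ φ.hom₃))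
    (h3' : Function.Bijective (fun x : P⟦(1 : ℤ)⟧ ⟶ T.obj₃ => x ≫ φ.hom₃)) :
    Function.Bijective (fun x : P ⟶ T.obj₁ => x ≫ φ.hom₁) := by
  have c1 := φ.comm₁
  have c2 := φ.comm₂
  have c3 := φ.comm₃
  constructor
  · suffices h : ∀ x : P ⟶ T.obj₁, x ≫ φ.hom₁ = 0 → x = 0 by
      intro x y hxy
      rw [← sub_eq_zero]
      apply h
      rw [Preadditive.sub_comp, sub_eq_zero]
      exact hxy
    intro x hx
    have e1 : x ≫ T.mor₁ = 0 := by
      apply h2.1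
      dsimp only
      rw [assoc, c1, reassoc_of% hx, zero_comp, zero_comp]
    obtain ⟨y, hy⟩ := Triangle.coyoneda_exact₁ _ hT (x⟦(1 : ℤ)⟧')
      (by rw [← Functor.map_comp, e1, Functor.map_zero])
    have e2 : (y ≫ φ.hom₃) ≫ T'.mor₃ = 0 := by
      rw [assoc, ← c3, ← assoc, ← hy, ← Functor.map_comp, hx, Functor.map_zero]
    obtain ⟨z, hz⟩ := Triangle.coyoneda_exact₃ _ hT' _ e2
    obtain ⟨z', hz'⟩ := h2' z
    dsimp only at hz'
    have e3 : y = z' ≫ T.mor₂ := by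
      apply h3'.1
      dsimp only
      rw [hz, ← hz', assoc, assoc, c2]
    apply (shiftFunctor D (1 : ℤ)).map_injective
    rw [hy, e3, assoc, comp_distTriang_mor_zero₂₃ _ hT, comp_zero, Functor.map_zero]
  · intro x'
    obtain ⟨w, hw⟩ := h2.2 (x' ≫ T'.mor₁)
    dsimp only at hw
    have e1 : w ≫ T.mor₂ = 0 := by
      apply h3
      dsimp only
      rw [assoc, c2, reassoc_of% hw, comp_distTriang_mor_zero₁₂ _ hT', comp_zero, zero_comp]
    obtain ⟨v, hv⟩ := Triangle.coyoneda_exact₂ _ hT w e1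
    have e2 : (x' - v ≫ φ.hom₁) ≫ T'.mor₁ = 0 := by
      rw [Preadditive.sub_comp, assoc, ← c1, ← hw, hv, assoc, sub_self]
    obtain ⟨y, hy⟩ := Triangle.coyoneda_exact₁ _ hT' ((x' - v ≫ φ.hom₁)⟦(1 : ℤ)⟧')
      (by rw [← Functor.map_comp, e2, Functor.map_zero])
    obtain ⟨y', hy'⟩ := h3'.2 y
    dsimp only at hy'
    obtain ⟨u', hu⟩ := (shiftFunctor D (1 : ℤ)).map_surjective (y' ≫ T.mor₃)
    have e3 : x' - v ≫ φ.hom₁ = u' ≫ φ.hom₁ := by
      apply (shiftFunctor D (1 : ℤ)).map_injective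
      rw [hy, ← hy', assoc, ← c3, Functor.map_comp, hu, assoc]
    refine ⟨v + u', ?_⟩
    dsimp only
    rw [Preadditive.add_comp, ← e3]
    abel

end Five

section Comparison

variable {C : Type u₁} [Category.{v₁} C] {D : Type u₂} [Category.{v₂} D] {g : C ⥤ D}
  {E : ℕ → C} {E' : ℕ → D} (σ : ∀ n, g.obj (E n) ≅ E' n) [HasProduct E] [HasProduct E']

/-- The comparison `g (∏ E) ⟶ ∏ E'`. -/
noncomputable def θ : g.obj (∏ᶜ E) ⟶ ∏ᶜ E' := Pi.lift fun n => g.map (Pi.π E n) ≫ (σ n).hom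

@[reassoc (attr := simp)]
lemma θ_π (n : ℕ) : θ σ ≫ Pi.π E' n = g.map (Pi.π E n) ≫ (σ n).hom := Pi.lift_π _ _

lemma bijective_θ {P : D} {B : C} {x : P ⟶ g.obj B} (hx : IsUnivArrow g (fun _ => True) x) :
    Function.Bijective (fun φ : P ⟶ g.obj (∏ᶜ E) => φ ≫ θ σ) := by
  constructor
  · intro φ φ' h
    obtain ⟨ψ, rfl⟩ := (hx _ trivial).2 φ
    obtain ⟨ψ', rfl⟩ := (hx _ trivial).2 φ'
    have : ψ = ψ' := by
      apply Pi.hom_ext
      intro n
      apply (hx _ trivial).1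
      dsimp only at h ⊢
      have h' : ((x ≫ g.map ψ) ≫ θ σ) ≫ Pi.π E' n = ((x ≫ g.map ψ') ≫ θ σ) ≫ Pi.π E' n :=
        congrArg (· ≫ Pi.π E' n) h
      simp only [assoc, θ_π, ← g.map_comp_assoc] at h'
      simpa only [← assoc, cancel_mono] using h'
    rw [this]
  · intro ψ
    choose s hs using fun n => (hx _ trivial).2 (ψ ≫ Pi.π E' n ≫ (σ n).inv)
    have hs' : ∀ n, x ≫ g.map (s n) = ψ ≫ Pi.π E' n ≫ (σ n).inv := hs
    refine ⟨x ≫ g.map (Pi.lift s), ?_⟩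
    apply Pi.hom_ext
    intro n
    dsimp only
    rw [assoc, θ_π, assoc, ← g.map_comp_assoc, Pi.lift_π, ← assoc, hs']
    simp

end Comparison

section Milnor

variable {C : Type u₁} [Category.{v₁} C] [Preadditive C] [HasZeroObject C] [HasShift C ℤ]
  [∀ n : ℤ, (shiftFunctor C n).Additive] [Pretriangulated C]
  {D : Type u₂} [Category.{v₂} D] [Preadditive D] [HasZeroObject D] [HasShift D ℤ]
  [∀ n : ℤ, (shiftFunctor D n).Additive] [Pretriangulated D]
  (g : C ⥤ D) [g.CommShift ℤ] [g.IsTriangulated]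
  {E : ℕ → C} {τ : ∀ n, E (n + 1) ⟶ E n} {E' : ℕ → D} {τ' : ∀ n, E' (n + 1) ⟶ E' n}
  (σ : ∀ n, g.obj (E n) ≅ E' n)

/-- Comparison of Milnor limits. -/
lemma exists_comparison (hσ : ∀ n, g.map (τ n) ≫ (σ n).hom = (σ (n + 1)).hom ≫ τ' n)
    {L : C} {π : ∀ n, L ⟶ E n} (h : IsMilnor τ π) {L' : D} {π' : ∀ n, L' ⟶ E' n} (h' : IsMilnor τ' π') :
    ∃ a : g.obj L ⟶ L', (∀ n, a ≫ π' n = g.map (π n) ≫ (σ n).hom) ∧
      ∀ P : D, (∃ (B : C) (x : P ⟶ g.obj B), IsUnivArrow g (fun _ => True) x) →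
        (∃ (B : C) (x : P⟦(1 : ℤ)⟧ ⟶ g.obj B), IsUnivArrow g (fun _ => True) x) →
        Function.Bijective (fun φ : P ⟶ g.obj L => φ ≫ a) := by
  obtain ⟨_, c, hT⟩ := h
  obtain ⟨_, c', hT'⟩ := h'
  have hgT := g.map_distinguished _ hT
  have comm : g.map (oneSub τ) ≫ θ σ = θ σ ≫ oneSub τ' := by
    apply Pi.hom_ext
    intro n
    simp only [assoc, θ_π, Preadditive.comp_sub, Pi.lift_π, Functor.map_sub,
      θ_π_assoc, ← hσ, ← g.map_comp_assoc, Preadditive.sub_comp]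
  obtain ⟨a, ha, ha'⟩ := complete_distinguished_triangle_morphism₁ _ _ hgT hT' (θ σ) (θ σ) comm
  let φ : g.mapTriangle.obj (Triangle.mk (Pi.lift π) (oneSub τ) c) ⟶
      Triangle.mk (Pi.lift π') (oneSub τ') c' :=
    { hom₁ := a
      hom₂ := θ σ
      hom₃ := θ σ
      comm₁ := ha
      comm₂ := comm
      comm₃ := ha' }
  refine ⟨a, fun n => ?_, ?_⟩
  · have h1 : (g.map (Pi.lift π) ≫ θ σ) ≫ Pi.π E' n = (a ≫ Pi.lift π') ≫ Pi.π E' n :=
      congrArg (· ≫ Pi.π E' n) ha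
    have h2 : (a ≫ Pi.lift π') ≫ Pi.π E' n = a ≫ π' n :=
      (Category.assoc _ _ _).trans (congrArg (a ≫ ·) (Pi.lift_π _ _))
    rw [assoc, θ_π, ← g.map_comp_assoc, Pi.lift_π] at h1
    exact (h1.trans h2).symm
  · rintro P ⟨B, x, hx⟩ ⟨B', x', hx'⟩
    exact bijective_five hgT hT' φ P (bijective_θ σ hx) (bijective_θ σ hx').2
      (bijective_θ σ hx).1 (bijective_θ σ hx')

end Milnor

end K369.CorepMilnor
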