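import Groth.Prelude.Def_KLin
import Groth.Prelude.Def_CohB1
import Groth.Agent.PerfA.ConeKill
import Groth.Agent.PerfA.HomologyLinear
import Groth.Agent.PerfA.PerfInd
import Groth.Agent.PerfA.HypLoc
import Groth.Agent.PerfA.HypAffine
import Groth.Agent.CohqB.DevSupport

/-!
# Morphisms from perfect objects to objects of `D_QCoh` supported on `V(a)` are killed by powers of `a`
-/

set_option autoImplicit false
universe u
open CategoryTheory CategoryTheory.Limits AlgebraicGeometry Opposite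
attribute [local instance] HasDerivedCategory.standard

namespace K369.KillPow
open Groth.Agent.PerfA Groth.Agent.PerfA.Hyp1 Groth.Agent.PerfA.ExtZero Groth.Agent.PerfA.Hyp0

variable {A : Type u} [CommRing A] {X : Scheme.{u}} [X.Over (Spec (CommRingCat.of A))]

/-- The action of `a` on the hypercohomology of `U`, seen on the sections of the cohomology sheaves. -/
lemma toHD_smul {m : ℤ} {K : DCoh.D X} {U : X.Opens} (a : A) (φ : P m U ⟶ K) :
    toHD (a • φ) =
      X.presheaf.map (homOfLE (le_top : U ≤ ⊤)).op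
        (Coh.toGlobal (X ↘ Spec (CommRingCat.of A)) a) • toHD φ := by
  have h1 : a • φ = φ ≫ (a • 𝟙 K) := by rw [Linear.comp_smul, Category.comp_id]
  rw [h1, toHD_comp, HomologyLinear.homologyFunctor_map_smul_id, KLin.smul_app_apply]
  rfl

theorem kill_P (a : A) {K : DCoh.D X} (hK : DCoh.IsQCohD K)
    (hsupp : ∀ i : ℤ, CohB1.support (DCoh.HD K i) ⊆
      (X.zeroLocus (U := ⊤) {Coh.toGlobal (X ↘ Spec (CommRingCat.of A)) a} : Set X))
    {U : X.Opens} (hU : IsAffineOpen U) (m : ℤ) (φ : P m U ⟶ K) : ∃ n : ℕ, a ^ n • φ = 0 := by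
  let g : Γ(X, U) := X.presheaf.map (homOfLE (le_top : U ≤ ⊤)).op
    (Coh.toGlobal (X ↘ Spec (CommRingCat.of A)) a)
  have hq : SheafOfModules.IsQuasicoherent (R := X.ringCatSheaf) (DCoh.HD K m) := hK m
  have hL := Groth.Agent.CohqB.QC2.loc_of_isQuasicoherent (DCoh.HD K m) hU
  obtain ⟨n, hn⟩ := hL.eq_zero g (toHD φ) (by
    have h1 : Subsingleton Γ(DCoh.HD K m, X.basicOpen g) := by
      refine Groth.Agent.CohqB.DevSupport.subsingleton_sections_of_support _ _ fun x hx hx' => ?_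
      have h2 := hsupp m hx'
      rw [Scheme.mem_zeroLocus_iff] at h2
      refine h2 _ rfl ?_
      have h3 : X.basicOpen g = U ⊓ X.basicOpen (Coh.toGlobal (X ↘ Spec (CommRingCat.of A)) a) :=
        Scheme.basicOpen_res _ _ _
      rw [h3] at hx
      exact hx.2
    exact Subsingleton.elim _ _)
  refine ⟨n, (HypAffine.eq_zero_iff_toHD K hK U hU m _).2 ?_⟩
  rw [toHD_smul]
  have h4 : X.presheaf.map (homOfLE (le_top : U ≤ ⊤)).op
        (Coh.toGlobal (X ↘ Spec (CommRingCat.of A)) (a ^ n)) = g ^ n := by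
    rw [map_pow]
    exact map_pow (X.presheaf.map (homOfLE (le_top : U ≤ ⊤)).op).hom _ n
  rw [h4]
  exact hn

theorem killsTo [CompactSpace X] [QuasiSeparatedSpace X] (a : A) {E K : DCoh.D X}
    (hE : DCoh.IsPerfect E) (hK : DCoh.IsQCohD K)
    (hsupp : ∀ i : ℤ, CohB1.support (DCoh.HD K i) ⊆
      (X.zeroLocus (U := ⊤) {Coh.toGlobal (X ↘ Spec (CommRingCat.of A)) a} : Set X)) :
    ConeKill.KillsTo a K E := by
  refine PerfInd.prop_of_isPerfect (ConeKill.KillsTo a K) (fun U hU => ?_) E hE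
  intro k φ
  let e : (DCoh.inD X (OU U))⟦k⟧ ≅ P (-k) U :=
    ((DerivedCategory.singleFunctors X.Modules).shiftIso k (-k) 0 (by lia)).app (OU U)
  obtain ⟨n, hn⟩ := kill_P a hK hsupp hU (-k) (e.inv ≫ φ)
  refine ⟨n, ?_⟩
  rw [← cancel_epi e.inv, Linear.comp_smul, hn, comp_zero]

end K369.KillPow
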