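import Groth.Agent.Perf.K369.RlimHeart
import Groth.Agent.PerfA.QCohAcyc
import Groth.Agent.PerfA.QCohEpi
import Groth.Agent.CohqA.HOpen

/-!
# Derived limits of inverse systems of quasi-coherent modules with surjective transition maps
-/

set_option autoImplicit false
universe w v u
open CategoryTheory CategoryTheory.Limits AlgebraicGeometry Opposite
attribute [local instance] HasDerivedCategory.standard

namespace K369.RlimQCoh
open Groth.Agent.PerfA Groth.Agent.PerfA.ExtZero K369.RlimHeart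

section

variable {C : Type u} [Category.{v} C] [Abelian C] [HasDerivedCategory.{w} C] [HasExt.{w} C]

/-- If all morphisms `G[-p] ⟶ M` vanish then `Ext^p(G, M) = 0`. -/
lemma subsingleton_ext (G M : C) (p : ℕ)
    (h : ∀ φ : (DerivedCategory.singleFunctor C (p : ℤ)).obj G ⟶
      (DerivedCategory.singleFunctor C 0).obj M, φ = 0) :
    Subsingleton (Abelian.Ext.{w} G M p) := by
  let e₁ : ((DerivedCategory.singleFunctor C 0).obj G)⟦(-(p : ℤ))⟧ ≅
      (DerivedCategory.singleFunctor C (p : ℤ)).obj G :=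
    ((DerivedCategory.singleFunctors C).shiftIso (-(p : ℤ)) p 0 (by lia)).app G
  let e₂ : (((DerivedCategory.singleFunctor C 0).obj M)⟦(p : ℤ)⟧)⟦(-(p : ℤ))⟧ ≅
      (DerivedCategory.singleFunctor C 0).obj M :=
    (shiftFunctorCompIsoId _ (p : ℤ) (-(p : ℤ)) (by lia)).app _
  have key : ∀ f : (DerivedCategory.singleFunctor C 0).obj G ⟶
      ((DerivedCategory.singleFunctor C 0).obj M)⟦(p : ℤ)⟧, f = 0 := by
    intro f
    apply (shiftFunctor (DerivedCategory C) (-(p : ℤ))).map_injective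
    have h1 : e₁.inv ≫ (shiftFunctor (DerivedCategory C) (-(p : ℤ))).map f ≫ e₂.hom = 0 := h _
    rw [Functor.map_zero]
    rw [← cancel_epi e₁.inv, ← cancel_mono e₂.hom, Category.assoc, h1]
    simp
  refine ⟨fun x y => Abelian.Ext.homEquiv.injective ((key _).trans (key _).symm)⟩

end

variable {X : Scheme.{u}} {F : ℕ → X.Modules} {t : ∀ n, F (n + 1) ⟶ F n}

theorem acSys (hF : ∀ n, Coh.IsQCoh (F n)) (ht : ∀ n, 1 ≤ n → Epi (t n)) :
    AcSys F t (QCohAcyc.affOU X) where
  van := by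
    rintro G ⟨U, hU, ⟨e⟩⟩ m hm n φ
    have h := AffVan.hom_single_OU_eq_zero (F n) (hF n) U hU m 0 hm
      ((DerivedCategory.singleFunctor X.Modules m).map e.inv ≫ φ)
    rw [← cancel_epi ((DerivedCategory.singleFunctor X.Modules m).map e.inv), h, comp_zero]
  lift := by
    rintro G ⟨U, hU, ⟨e⟩⟩ n hn y
    have := ht n hn
    have h1 := hF n
    have h2 := hF (n + 1)
    obtain ⟨s, hs⟩ := desc_surjective (e.inv ≫ y)
    obtain ⟨s', hs'⟩ := QCohEpi.app_surjective_of_epi (t n) hU s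
    refine ⟨e.hom ≫ desc s', ?_⟩
    rw [Category.assoc, desc_comp, hs', ← hs, Iso.hom_inv_id_assoc]

theorem isRlim (hF : ∀ n, Coh.IsQCoh (F n)) (ht : ∀ n, 1 ≤ n → Epi (t n))
    [HasProduct fun n => DCoh.inD X (F n)] :
    DCoh.IsRlim (fun n => DCoh.inD X (F n))
      (fun n => (DerivedCategory.singleFunctor X.Modules 0).map (t n))
      (DCoh.inD X (limit (Functor.ofOpSequence t))) := by
  obtain ⟨_, c, hT⟩ := (acSys hF ht).isMilnor_limit QCohAcyc.detects_affOU
  exact ⟨_, c, hT⟩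

theorem subsingleton_HHon (hF : ∀ n, Coh.IsQCoh (F n)) (ht : ∀ n, 1 ≤ n → Epi (t n))
    [HasProduct fun n => DCoh.inD X (F n)] (U : X.Opens) (hU : IsAffineOpen U) (p : ℕ)
    (hp : 0 < p) : Subsingleton (Coh.HHon X (limit (Functor.ofOpSequence t)) U p) := by
  haveI := HasExt.standard X.Modules
  have h1 : Subsingleton (Abelian.Ext (OU U) (limit (Functor.ofOpSequence t)) p) := by
    refine subsingleton_ext _ _ p fun φ => ?_
    obtain ⟨_, c, hT⟩ := (acSys hF ht).isMilnor_limit QCohAcyc.detects_affOU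
    exact (acSys hF ht).hom_eq_zero _ c hT ⟨U, hU, ⟨Iso.refl _⟩⟩ p (by lia) φ
  exact ((Groth.Agent.CohqA.HOpen.HHonEquiv _ U p).symm.trans
    (AffVan.extEquiv U _ p).symm).toEquiv.subsingleton

end K369.RlimQCoh
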