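import Groth.Agent.Perf.K369.CorepMilnor
import Groth.Agent.Perf.K369.RlimQCoh
import Groth.Agent.PerfB.AffHD
import Groth.Agent.FormalA.PullbackQC

/-!
# `f^* (lim M_n)~ ⟶ lim f^* M_n~` becomes an isomorphism in `D_QCoh`
-/

set_option autoImplicit false

universe u v w

open CategoryTheory Category Limits Pretriangulated AlgebraicGeometry Opposite
attribute [local instance] HasDerivedCategory.standard

namespace K369.LimCompare

open Groth.Agent Groth.Agent.PerfA.PostTower Groth.Agent.PerfA.Milnor Groth.Agent.PerfB Corep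
  CorepMilnor RlimHeart

section Dev

variable {X : Scheme.{u}} [CompactSpace X] [QuasiSeparatedSpace X]

/-- A morphism inducing bijections on `Hom(P, -)` for `P` perfect induces bijections on `Hom(Q, -)` for
`Q ∈ D_QCoh`. -/
theorem bijective_of_isPerfect {A A' : DCoh.D X} (c : A ⟶ A')
    (h : ∀ P : DCoh.D X, DCoh.IsPerfect P → Function.Bijective (fun φ : P ⟶ A => φ ≫ c))
    (Q : DCoh.D X) (hQ : DCoh.IsQCohD Q) : Function.Bijective (fun φ : Q ⟶ A => φ ≫ c) := by
  obtain ⟨N, d, e, hT⟩ := distinguished_cocone_triangle c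
  let W : ObjectProperty (DCoh.D X) := fun Z => ∃ i : ℤ, Nonempty (Z ≅ N⟦i⟧)
  have hW : W.IsStableUnderShift ℤ := ⟨fun n => ⟨fun Z ⟨i, ⟨s⟩⟩ =>
    ⟨i + n, ⟨(shiftFunctor _ n).mapIso s ≪≫ ((shiftFunctorAdd _ i n).app N).symm⟩⟩⟩⟩
  have hperf : ∀ P : DCoh.D X, DCoh.IsPerfect P → W.leftOrthogonal P := by
    rintro P hP Z f ⟨i, ⟨s⟩⟩
    have h1 : ∀ φ : P⟦-i⟧ ⟶ N, φ = 0 :=
      HomBijOn.eq_zero_of_bijective hT (P⟦-i⟧) (P⟦-i-1⟧)
        ((shiftFunctorAdd' (DCoh.D X) (-i-1) 1 (-i) (by lia)).app P).symm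
        (h _ (Dcoh.StrPerf.isPerfect_shift hP _)) (h _ (Dcoh.StrPerf.isPerfect_shift hP _))
    apply (shiftFunctor (DCoh.D X) (-i)).map_injective
    let s' : Z⟦-i⟧ ≅ N := (shiftFunctor _ (-i)).mapIso s ≪≫
      (shiftFunctorCompIsoId _ i (-i) (by lia)).app N
    rw [← cancel_mono s'.hom, h1 (_ ≫ s'.hom), Functor.map_zero, zero_comp]
  have key : W.leftOrthogonal Q := by
    refine PerfA.QCLim.prop_of_isQCohD X W.leftOrthogonal (fun J K _ hK Z f hZ => ?_) hperf Q hQ
    apply Sigma.hom_ext
    intro j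
    rw [comp_zero]
    exact hK j _ hZ
  constructor
  · suffices h : ∀ x : Q ⟶ A, x ≫ c = 0 → x = 0 by
      intro x y hxy
      rw [← sub_eq_zero]
      apply h
      rw [Preadditive.sub_comp, sub_eq_zero]
      exact hxy
    intro x hx
    obtain ⟨y, hy⟩ := Triangle.coyoneda_exact₂ _ (inv_rot_of_distTriang _ hT) x hx
    have h0 : y = 0 := key y ⟨-1, ⟨Iso.refl _⟩⟩
    rw [hy, h0]
    exact zero_comp
  · intro x'
    obtain ⟨x, hx⟩ := Triangle.coyoneda_exact₂ _ hT x'
      (key (x' ≫ d) ⟨0, ⟨((shiftFunctorZero (DCoh.D X) ℤ).app N).symm⟩⟩)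
    exact ⟨x, hx.symm⟩

end Dev

section Single

variable {C : Type u} [Category.{v} C] [Abelian C]

/-- A functor `ℕᵒᵖ ⥤ C` is the functor defined by its transition maps. -/
noncomputable def isoOfOpSequence (F : ℕᵒᵖ ⥤ C) (E : ℕ → C) (t : ∀ n, E (n + 1) ⟶ E n)
    (e : ∀ n, F.obj (op n) ≅ E n)
    (he : ∀ n, F.map (homOfLE (Nat.le_add_right n 1)).op ≫ (e n).hom = (e (n + 1)).hom ≫ t n) :
    F ≅ Functor.ofOpSequence t :=
  let α : F ⟶ Functor.ofOpSequence t :=
    NatTrans.ofOpSequence (G := Functor.ofOpSequence t) (fun n => (e n).hom)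
      (fun n => (he n).trans (congrArg ((e (n + 1)).hom ≫ ·)
        (Functor.ofOpSequence_map_homOfLE_succ t n).symm))
  haveI : ∀ n : ℕᵒᵖ, IsIso (α.app n) := fun n => inferInstanceAs (IsIso (e n.unop).hom)
  haveI : IsIso α := NatIso.isIso_of_isIso_app _
  asIso α

omit [Abelian C] in
lemma isoOfOpSequence_hom_app (F : ℕᵒᵖ ⥤ C) (E : ℕ → C) (t : ∀ n, E (n + 1) ⟶ E n)
    (e : ∀ n, F.obj (op n) ≅ E n)
    (he : ∀ n, F.map (homOfLE (Nat.le_add_right n 1)).op ≫ (e n).hom = (e (n + 1)).hom ≫ t n) (n : ℕ) :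
    (isoOfOpSequence F E t e he).hom.app (op n) = (e n).hom := rfl

variable [HasDerivedCategory.{w} C]

/-- Variant of `AcSys.isMilnor_limit`. -/
theorem isMilnor_limit' (F : ℕᵒᵖ ⥤ C) [HasLimit F] (E : ℕ → C) (t : ∀ n, E (n + 1) ⟶ E n)
    [HasProduct (SF E)]
    (e : ∀ n, F.obj (op n) ≅ E n)
    (he : ∀ n, F.map (homOfLE (Nat.le_add_right n 1)).op ≫ (e n).hom = (e (n + 1)).hom ≫ t n)
    {P : ObjectProperty C} (hP : PerfA.PostAbs.Detects P) (h : AcSys E t P)
    (q : ∀ n, limit F ⟶ E n) (hq : ∀ n, limit.π F (op n) ≫ (e n).hom = q n) :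
    IsMilnor (St E t) (fun n => (DerivedCategory.singleFunctor C 0).map (q n)) := by
  have : HasLimit (Functor.ofOpSequence t) := hasLimit_of_iso (isoOfOpSequence F E t e he)
  refine (h.isMilnor_limit hP).of_iso ((DerivedCategory.singleFunctor C 0).mapIso
    (HasLimit.isoOfNatIso (isoOfOpSequence F E t e he))) (fun n => ?_)
  refine ((DerivedCategory.singleFunctor C 0).map_comp _ _).symm.trans
    (congrArg (DerivedCategory.singleFunctor C 0).map ?_)
  exact (HasLimit.isoOfNatIso_hom_π (isoOfOpSequence F E t e he) (op n)).trans (hq n)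

end Single

section Main

variable {R : CommRingCat.{u}}

/-- The acyclicity hypotheses for systems of modules with surjective transition maps. -/
theorem acSys_mod (M : ℕ → ModuleCat.{u} R) (t : ∀ n, M (n + 1) ⟶ M n) (ht : ∀ n, Epi (t n)) :
    AcSys M t (PerfA.QCohAcyc.self R) where
  van G hG m hm n φ := (PerfA.QCohAcyc.acycMod R).van hG trivial m 0 hm φ
  lift := by
    rintro G ⟨e⟩ n _ y
    have : Projective (ModuleCat.of R R) := ModuleCat.projective_of_free (Module.Basis.singleton Unit R)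
    have : Projective G := Projective.of_iso e.symm this
    have := ht n
    exact ⟨Projective.factorThru y (t n), Projective.factorThru_comp y (t n)⟩

variable [PreservesFiniteLimits (tilde.functor R)] {X : Scheme.{u}} (f : X ⟶ Spec R)

instance : (tilde.functor R).Additive := inferInstance

/-- `M[0]` goes to `(f^* M~)[0]`. -/
noncomputable def sigmaIso [PreservesFiniteLimits (Scheme.Modules.pullback f)] :
    DerivedCategory.singleFunctor (ModuleCat.{u} R) 0 ⋙ (tilde.functor R).mapDerivedCategory ⋙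
      (Scheme.Modules.pullback f).mapDerivedCategory ≅
    (tilde.functor R ⋙ Scheme.Modules.pullback f) ⋙ DerivedCategory.singleFunctor X.Modules 0 :=
  (Functor.associator _ _ _).symm ≪≫
    Functor.isoWhiskerRight ((tilde.functor R).mapDerivedCategorySingleFunctor 0) _ ≪≫
    Functor.associator _ _ _ ≪≫
    Functor.isoWhiskerLeft _ ((Scheme.Modules.pullback f).mapDerivedCategorySingleFunctor 0) ≪≫
    (Functor.associator _ _ _).symm

theorem bijective_comparison [CompactSpace X] [QuasiSeparatedSpace X] [QuasiCompact f] [QuasiSeparated f]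
    [PreservesFiniteLimits (Scheme.Modules.pullback f)] [DCoh.HasRpush f]
    (hf : ∀ E : DCoh.D X, DCoh.IsPerfect E → DCoh.IsPerfect ((DCoh.Rpush f).obj E))
    (M : ℕ → ModuleCat.{u} R) (t : ∀ n, M (n + 1) ⟶ M n) (ht : ∀ n, Epi (t n))
    (Q : DCoh.D X) (hQ : DCoh.IsQCohD Q) :
    Function.Bijective (fun φ : Q ⟶ DCoh.inD X ((tilde.functor R ⋙ Scheme.Modules.pullback f).obj
        (Limits.limit (Functor.ofOpSequence t))) =>
      φ ≫ (DerivedCategory.singleFunctor X.Modules 0).map
        (Limits.limit.lift (Functor.ofOpSequence t ⋙ (tilde.functor R ⋙ Scheme.Modules.pullback f))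
          ((tilde.functor R ⋙ Scheme.Modules.pullback f).mapCone
            (Limits.limit.cone (Functor.ofOpSequence t))))) := by
  let T : ModuleCat.{u} R ⥤ X.Modules := tilde.functor R ⋙ Scheme.Modules.pullback f
  let c : T.obj (limit (Functor.ofOpSequence t)) ⟶ limit (Functor.ofOpSequence t ⋙ T) :=
    limit.lift (Functor.ofOpSequence t ⋙ T) (T.mapCone (limit.cone (Functor.ofOpSequence t)))
  have hc : ∀ n : ℕ, c ≫ limit.π (Functor.ofOpSequence t ⋙ T) (op n) =
      T.map (limit.π (Functor.ofOpSequence t) (op n)) := fun n => limit.lift_π _ _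
  have := (inferInstance : PreservesFiniteColimits (tilde.functor R))
  have hepi : ∀ n, Epi (T.map (t n)) := fun n => by
    have := ht n
    have : Epi ((tilde.functor R).map (t n)) := inferInstance
    exact inferInstanceAs (Epi ((Scheme.Modules.pullback f).map ((tilde.functor R).map (t n))))
  have hq : ∀ n, Coh.IsQCoh (T.obj (M n)) := fun n =>
    FormalA.PullbackQC.isQCoh_pullback f _ (inferInstance : ((tilde.functor R).obj (M n)).IsQuasicoherent)
  have hM := isMilnor_limit' (Functor.ofOpSequence t) M t (fun n => Iso.refl _)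
    (fun n => ((comp_id _).trans (Functor.ofOpSequence_map_homOfLE_succ t n)).trans (id_comp _).symm)
    (PerfA.QCohAcyc.detects_self R) (acSys_mod M t ht)
    (fun n => limit.π (Functor.ofOpSequence t) (op n)) (fun n => comp_id _)
  have hM' := isMilnor_limit' (Functor.ofOpSequence t ⋙ T) (fun n => T.obj (M n)) (fun n => T.map (t n))
    (fun n => Iso.refl _) (fun n => ((comp_id _).trans
      (congrArg T.map (Functor.ofOpSequence_map_homOfLE_succ t n))).trans (id_comp _).symm)
    PerfA.QCohAcyc.detects_affOU (RlimQCoh.acSys hq (fun n _ => hepi n))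
    (fun n => limit.π (Functor.ofOpSequence t ⋙ T) (op n)) (fun n => comp_id _)
  let s0 := sigmaIso f
  obtain ⟨a, ha, hbij⟩ := exists_comparison
    ((tilde.functor R).mapDerivedCategory ⋙ (Scheme.Modules.pullback f).mapDerivedCategory)
    (fun n => s0.app (M n)) (fun n => s0.hom.naturality (t n)) hM hM'
  have key : a = (s0.app _).hom ≫ (DerivedCategory.singleFunctor X.Modules 0).map c := by
    obtain ⟨b, hb⟩ := (DerivedCategory.singleFunctor X.Modules 0).map_surjective ((s0.app _).inv ≫ a)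
    have hbc : b = c := by
      apply limit.hom_ext
      rintro ⟨n⟩
      rw [hc]
      apply (DerivedCategory.singleFunctor X.Modules 0).map_injective
      rw [Functor.map_comp, hb]
      have h1 := ha n
      have h2 := s0.hom.naturality (limit.π (Functor.ofOpSequence t) (op n))
      exact (assoc _ _ _).trans ((congrArg ((s0.app (limit (Functor.ofOpSequence t))).inv ≫ ·)
        (h1.trans h2)).trans (Iso.inv_hom_id_assoc (s0.app (limit (Functor.ofOpSequence t))) _))
    rw [← hbc, hb, Iso.hom_inv_id_assoc]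
  refine bijective_of_isPerfect _ (fun P hP => ?_) Q hQ
  have h1 := hbij P (Corep.exists_univArrow_tilde R f hf P hP |>.imp fun B h => h)
    (Corep.exists_univArrow_tilde R f hf _ (Dcoh.StrPerf.isPerfect_shift hP 1))
  rw [key] at h1
  have h2 : Function.Bijective (fun φ : P ⟶ (T ⋙ DerivedCategory.singleFunctor X.Modules 0).obj
      (limit (Functor.ofOpSequence t)) => φ ≫ (s0.app _).inv) :=
    ((s0.app _).symm.homToEquiv (Z := P)).bijective
  convert h1.comp h2 using 2 with φ
  simp only [Function.comp_apply, assoc, Iso.inv_hom_id_assoc]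
  rfl

end Main

end K369.LimCompare
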