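import Mathlib.CategoryTheory.Localization.Predicate
import Mathlib.CategoryTheory.MorphismProperty.Composition

/-!
# A criterion for a functor to be a localization functor, in terms of roofs up to homotopy
-/

set_option autoImplicit false

universe v₁ u₁ v₂ u₂

open CategoryTheory

namespace K369.LocRoof

variable {S : Type u₁} [Category.{v₁} S] {D : Type u₂} [Category.{v₂} D]
  (W : MorphismProperty S) (L : S ⥤ D)

/-- Every morphism between objects in the image of `L` is represented by a roof, and two morphisms with the same image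
become equal after localization when precomposed with an element of `W`. -/
structure Roofs : Prop where
  inverts : W.IsInvertedBy L
  exists_roof : ∀ ⦃E F : S⦄ (α : L.obj E ⟶ L.obj F), ∃ (G : S) (g : G ⟶ E) (h : G ⟶ F),
    W g ∧ L.map g ≫ α = L.map h
  eq_of_map_eq : ∀ ⦃E F : S⦄ (a b : E ⟶ F), L.map a = L.map b → W.Q.map a = W.Q.map b

variable {W L}

/-- All morphisms of the localized category are roofs. -/
lemma Roofs.exists_roof_loc (H : Roofs W L) {E F : S} (f : W.Q.obj E ⟶ W.Q.obj F) :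
    ∃ (G : S) (g : G ⟶ E) (h : G ⟶ F), IsIso (W.Q.map g) ∧ W.Q.map g ≫ f = W.Q.map h := by
  let P : MorphismProperty W.Localization := fun X Y f =>
    ∃ (E F : S) (hX : W.Q.obj E = X) (hY : W.Q.obj F = Y) (G : S) (g : G ⟶ E)
      (h : G ⟶ F), IsIso (W.Q.map g) ∧
        W.Q.map g ≫ eqToHom hX ≫ f = W.Q.map h ≫ eqToHom hY
  have hP : ∀ {E F : S} (f : W.Q.obj E ⟶ W.Q.obj F), P f ↔
      ∃ (G : S) (g : G ⟶ E) (h : G ⟶ F), IsIso (W.Q.map g) ∧ W.Q.map g ≫ f = W.Q.map h := by
    intro E F f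
    constructor
    · rintro ⟨E', F', hX, hY, G, g, h, hg, e⟩
      obtain rfl : E' = E := (Localization.Construction.objEquiv W).injective hX
      obtain rfl : F' = F := (Localization.Construction.objEquiv W).injective hY
      refine ⟨G, g, h, hg, ?_⟩
      simpa using e
    · rintro ⟨G, g, h, hg, e⟩
      refine ⟨E, F, rfl, rfl, G, g, h, hg, ?_⟩
      simpa using e
  have hcomp : P.IsStableUnderComposition := by
    constructor
    intro X Y Z f₁ f₂ h₁ h₂
    obtain ⟨E, rfl⟩ : ∃ E, W.Q.obj E = X := (Localization.Construction.objEquiv W).surjective X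
    obtain ⟨F, rfl⟩ : ∃ F, W.Q.obj F = Y := (Localization.Construction.objEquiv W).surjective Y
    obtain ⟨K, rfl⟩ : ∃ K, W.Q.obj K = Z := (Localization.Construction.objEquiv W).surjective Z
    obtain ⟨G₁, g₁, k₁, hg₁, e₁⟩ := (hP f₁).1 h₁
    obtain ⟨G₂, g₂, k₂, hg₂, e₂⟩ := (hP f₂).1 h₂
    refine (hP _).2 ?_
    let L' : W.Localization ⥤ D := Localization.Construction.lift L H.inverts
    have hfac : W.Q ⋙ L' = L := Localization.Construction.fac L H.inverts
    have hLg₂ : IsIso (L.map g₂) := by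
      have h1 : IsIso ((W.Q ⋙ L').map g₂) := by
        dsimp only [Functor.comp_map]
        infer_instance
      rw [← hfac]
      exact h1
    obtain ⟨G₃, s, k, hs, e₃⟩ := H.exists_roof (L.map k₁ ≫ inv (L.map g₂))
    have e₄ : W.Q.map (s ≫ k₁) = W.Q.map (k ≫ g₂) := by
      apply H.eq_of_map_eq
      rw [Functor.map_comp, Functor.map_comp, ← e₃, Category.assoc, Category.assoc,
        IsIso.inv_hom_id, Category.comp_id]
    have hs' : IsIso (W.Q.map s) := W.Q_inverts s hs
    refine ⟨G₃, s ≫ g₁, k ≫ k₂, ?_, ?_⟩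
    · rw [Functor.map_comp]
      infer_instance
    · rw [Functor.map_comp, Category.assoc, reassoc_of% e₁, ← Category.assoc, ← Functor.map_comp,
        e₄, Functor.map_comp, Category.assoc, e₂, Functor.map_comp]
  have htop : P = ⊤ := by
    refine Localization.Construction.morphismProperty_eq_top P (fun X Y f => ?_)
      (fun X Y w hw => ?_)
    · refine (hP _).2 ⟨X, 𝟙 X, f, ?_, ?_⟩
      · rw [Functor.map_id]
        infer_instance
      · rw [Functor.map_id, Category.id_comp]
    · refine (hP _).2 ⟨X, w, 𝟙 X, W.Q_inverts w hw, ?_⟩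
      rw [Functor.map_id]
      exact (Localization.Construction.wIso w hw).hom_inv_id
  exact (hP f).1 (by rw [htop]; trivial)

/-- Morphisms of the localized category with the same image are equal. -/
lemma Roofs.faithful_aux (H : Roofs W L) {E F : S} (f f' : W.Q.obj E ⟶ W.Q.obj F)
    (h : (Localization.Construction.lift L H.inverts).map f =
      (Localization.Construction.lift L H.inverts).map f') : f = f' := by
  let L' : W.Localization ⥤ D := Localization.Construction.lift L H.inverts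
  have hfac : W.Q ⋙ L' = L := Localization.Construction.fac L H.inverts
  obtain ⟨G₁, g₁, k₁, hg₁, e₁⟩ := H.exists_roof_loc f
  obtain ⟨G₂, g₂, k₂, hg₂, e₂⟩ := H.exists_roof_loc f'
  obtain ⟨G₃, s, k, hs, e₃⟩ := H.exists_roof_loc (W.Q.map g₁ ≫ inv (W.Q.map g₂))
  have e₄ : W.Q.map (s ≫ g₁) = W.Q.map (k ≫ g₂) := by
    rw [Functor.map_comp, Functor.map_comp, ← e₃, Category.assoc, Category.assoc,
      IsIso.inv_hom_id, Category.comp_id]
  have e₅ : W.Q.map (s ≫ k₁) = W.Q.map (s ≫ g₁) ≫ f := by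
    rw [Functor.map_comp, Functor.map_comp, Category.assoc, e₁]
  have e₆ : W.Q.map (k ≫ k₂) = W.Q.map (s ≫ g₁) ≫ f' := by
    rw [e₄, Functor.map_comp, Functor.map_comp, Category.assoc, e₂]
  have e₇ : (W.Q ⋙ L').map (s ≫ k₁) = (W.Q ⋙ L').map (k ≫ k₂) := by
    change L'.map (W.Q.map (s ≫ k₁)) = L'.map (W.Q.map (k ≫ k₂))
    rw [e₅, e₆, L'.map_comp (W.Q.map (s ≫ g₁)) f, L'.map_comp (W.Q.map (s ≫ g₁)) f']
    exact congrArg (fun t => L'.map (W.Q.map (s ≫ g₁)) ≫ t) h
  have e₈ : L.map (s ≫ k₁) = L.map (k ≫ k₂) := by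
    have h1 : ∀ (L₁ L₂ : S ⥤ D) (_ : L₁ = L₂) {A B : S} (a b : A ⟶ B),
        L₁.map a = L₁.map b → L₂.map a = L₂.map b := by
      rintro L₁ _ rfl A B a b h
      exact h
    exact h1 _ _ hfac _ _ e₇
  have e₉ := H.eq_of_map_eq _ _ e₈
  have : IsIso (W.Q.map (s ≫ g₁)) := by
    rw [Functor.map_comp]
    infer_instance
  rw [← cancel_epi (W.Q.map (s ≫ g₁)), ← e₅, ← e₆, e₉]

/-- The criterion. -/
theorem Roofs.isLocalization (H : Roofs W L) [L.EssSurj] : L.IsLocalization W := by
  let L' : W.Localization ⥤ D := Localization.Construction.lift L H.inverts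
  have hfac : W.Q ⋙ L' = L := Localization.Construction.fac L H.inverts
  have hess : L'.EssSurj := ⟨fun Y => by
    obtain ⟨E, ⟨e⟩⟩ := (inferInstance : L.EssSurj).mem_essImage Y
    refine ⟨W.Q.obj E, ⟨?_⟩⟩
    exact (eqToIso (by rw [← hfac]; rfl)) ≪≫ e⟩
  have hfaith : L'.Faithful := ⟨fun {X Y} f f' h => by
    obtain ⟨E, rfl⟩ : ∃ E, W.Q.obj E = X := (Localization.Construction.objEquiv W).surjective X
    obtain ⟨F, rfl⟩ : ∃ F, W.Q.obj F = Y := (Localization.Construction.objEquiv W).surjective Y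
    exact H.faithful_aux f f' h⟩
  have hfull : L'.Full := ⟨fun {X Y} α => by
    obtain ⟨E, rfl⟩ : ∃ E, W.Q.obj E = X := (Localization.Construction.objEquiv W).surjective X
    obtain ⟨F, rfl⟩ : ∃ F, W.Q.obj F = Y := (Localization.Construction.objEquiv W).surjective Y
    have key : ∀ (L₁ : S ⥤ D) (_ : W.Q ⋙ L' = L₁)
        (_ : ∀ ⦃E F : S⦄ (α : L₁.obj E ⟶ L₁.obj F), ∃ (G : S) (g : G ⟶ E) (h : G ⟶ F),
          W g ∧ L₁.map g ≫ α = L₁.map h),
        ∃ (G : S) (g : G ⟶ E) (h : G ⟶ F), W g ∧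
          (W.Q ⋙ L').map g ≫ α = (W.Q ⋙ L').map h := by
      rintro L₁ rfl h
      exact h α
    obtain ⟨G, g, h, hg, e⟩ := key L hfac H.exists_roof
    have : IsIso (W.Q.map g) := W.Q_inverts g hg
    refine ⟨inv (W.Q.map g) ≫ W.Q.map h, ?_⟩
    change L'.map (W.Q.map g) ≫ α = L'.map (W.Q.map h) at e
    rw [Functor.map_comp, Functor.map_inv, ← e, IsIso.inv_hom_id_assoc]⟩
  exact { inverts := H.inverts
          isEquivalence := { faithful := hfaith, full := hfull, essSurj := hess } }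

end K369.LocRoof
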