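import Mathlib.CategoryTheory.Triangulated.Functor
import Mathlib.CategoryTheory.Triangulated.Subcategory
import Mathlib.CategoryTheory.Limits.Shapes.Products

/-!
# The domain of definition of a left adjoint of a triangulated functor

`g : C ⥤ D` triangulated, `Q` a triangulated subcategory of `C`.  The objects `K` of `D` for which
`F ↦ Hom(K, g F)` is corepresentable on `Q` by an object of `Q` form a triangulated subcategory closed under
coproducts (if `Q` is).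
-/

set_option autoImplicit false

universe w v₁ v₂ u₁ u₂

open CategoryTheory Category Limits Pretriangulated

namespace K369.PartialAdj

section Basic

variable {C : Type u₁} [Category.{v₁} C] {D : Type u₂} [Category.{v₂} D] (g : C ⥤ D) (Q : ObjectProperty C)

/-- A universal arrow `x : K ⟶ g L` relative to the objects satisfying `Q`. -/
def IsUniv {K : D} {L : C} (x : K ⟶ g.obj L) : Prop :=
  ∀ F : C, Q F → Function.Bijective (fun φ : L ⟶ F => x ≫ g.map φ)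

/-- The left adjoint of `g` (restricted to `Q`) is defined at `K`. -/
def Def : ObjectProperty D := fun K => ∃ (L : C) (_ : Q L) (x : K ⟶ g.obj L), IsUniv g Q x

variable {g Q}

lemma IsUniv.comp_iso {K K' : D} {L : C} {x : K ⟶ g.obj L} (hx : IsUniv g Q x) (e : K' ≅ K) :
    IsUniv g Q (e.hom ≫ x) := by
  intro F hF
  have h1 : Function.Bijective (fun φ : K ⟶ g.obj F => e.hom ≫ φ) :=
    (e.symm.homFromEquiv (Z := g.obj F)).bijective
  convert h1.comp (hx F hF) using 2 with φ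
  simp

lemma IsUniv.iso_comp {K : D} {L L' : C} {x : K ⟶ g.obj L} (hx : IsUniv g Q x) (e : L ≅ L') :
    IsUniv g Q (x ≫ g.map e.hom) := by
  intro F hF
  have h1 : Function.Bijective (fun φ : L' ⟶ F => e.hom ≫ φ) :=
    (e.symm.homFromEquiv (Z := F)).bijective
  convert (hx F hF).comp h1 using 2 with φ
  simp

lemma IsUniv.of_natIso {g' : C ⥤ D} (s : g ≅ g') {K : D} {L : C} {x : K ⟶ g.obj L} (hx : IsUniv g Q x) :
    IsUniv g' Q (x ≫ s.hom.app L) := by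
  intro F hF
  have h1 : Function.Bijective (fun φ : K ⟶ g.obj F => φ ≫ s.hom.app F) :=
    ((s.app F).homToEquiv (Z := K)).bijective
  convert h1.comp (hx F hF) using 2 with φ
  simp

instance : (Def g Q).IsClosedUnderIsomorphisms where
  of_iso e := by
    rintro ⟨L, hL, x, hx⟩
    exact ⟨L, hL, _, hx.comp_iso e.symm⟩

lemma def_of_natIso {g' : C ⥤ D} (s : g ≅ g') {K : D} (h : Def g Q K) : Def g' Q K := by
  obtain ⟨L, hL, x, hx⟩ := h
  exact ⟨L, hL, _, hx.of_natIso s⟩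

/-- Closure under coproducts. -/
lemma def_coproduct {J : Type w} (K : J → D) [HasCoproduct K]
    (hC : ∀ L : J → C, (∀ j, Q (L j)) → ∃ _ : HasCoproduct L, Q (∐ L))
    (h : ∀ j, Def g Q (K j)) : Def g Q (∐ K) := by
  choose L hL x hx using h
  obtain ⟨_, hQ⟩ := hC L hL
  refine ⟨∐ L, hQ, Sigma.desc (fun j => x j ≫ g.map (Sigma.ι L j)), fun F hF => ⟨?_, ?_⟩⟩
  · intro φ φ' hφ
    apply Sigma.hom_ext
    intro j
    apply (hx j F hF).1
    have h1 := congrArg (Sigma.ι K j ≫ ·) hφ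
    dsimp only at h1 ⊢
    simpa using h1
  · intro y
    choose s hs using fun j => (hx j F hF).2 (Sigma.ι K j ≫ y)
    have hs' : ∀ j, x j ≫ g.map (s j) = Sigma.ι K j ≫ y := hs
    refine ⟨Sigma.desc s, ?_⟩
    apply Sigma.hom_ext
    intro j
    dsimp only
    rw [colimit.ι_desc_assoc]
    simp only [Cofan.mk_ι_app, assoc, ← g.map_comp, colimit.ι_desc]
    exact hs' j

end Basic

section Tri

variable {C : Type u₁} [Category.{v₁} C] [Preadditive C] [HasZeroObject C] [HasShift C ℤ]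
  [∀ n : ℤ, (shiftFunctor C n).Additive] [Pretriangulated C]
  {D : Type u₂} [Category.{v₂} D] [Preadditive D] [HasZeroObject D] [HasShift D ℤ]
  [∀ n : ℤ, (shiftFunctor D n).Additive] [Pretriangulated D]
  (g : C ⥤ D) [g.CommShift ℤ] [g.IsTriangulated] (Q : ObjectProperty C) [Q.IsTriangulated]
  [Q.IsClosedUnderIsomorphisms]

variable {Q} in
omit [Pretriangulated C] [Pretriangulated D] [g.IsTriangulated] [Q.IsTriangulated] in
/-- Shift of a universal arrow. -/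
lemma IsUniv.shift [Q.IsStableUnderShift ℤ] {K : D} {L : C} {x : K ⟶ g.obj L} (hx : IsUniv g Q x) (n : ℤ) :
    IsUniv g Q (x⟦n⟧' ≫ (g.commShiftIso n).inv.app L) := by
  have key : ∀ F : C, Q F → Function.Bijective
      (fun φ : L⟦n⟧ ⟶ F⟦n⟧ => (x⟦n⟧' ≫ (g.commShiftIso n).inv.app L) ≫ g.map φ) := by
    intro F hF
    have h1 : Function.Bijective (fun φ : K ⟶ g.obj F => φ⟦n⟧' ≫ (g.commShiftIso n).inv.app F) :=
      (((g.commShiftIso n).symm.app F).homToEquiv (Z := K⟦n⟧)).bijective.comp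
        ((Functor.FullyFaithful.ofFullyFaithful (shiftFunctor D n)).homEquiv (X := K)
          (Y := g.obj F)).bijective
    have h2 : Function.Bijective (fun φ : L ⟶ F => φ⟦n⟧') :=
      ((Functor.FullyFaithful.ofFullyFaithful (shiftFunctor C n)).homEquiv (X := L) (Y := F)).bijective
    have h3 : ((fun φ : L⟦n⟧ ⟶ F⟦n⟧ => (x⟦n⟧' ≫ (g.commShiftIso n).inv.app L) ≫ g.map φ) ∘
        (fun φ : L ⟶ F => φ⟦n⟧')) = (fun φ : K ⟶ g.obj F => φ⟦n⟧' ≫ (g.commShiftIso n).inv.app F) ∘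
        (fun φ : L ⟶ F => x ≫ g.map φ) := by
      funext φ
      have := (g.commShiftIso n).inv.naturality φ
      dsimp at this ⊢
      rw [Functor.map_comp, assoc, assoc, this]
    refine (Function.Bijective.of_comp_iff _ h2).1 ?_
    rw [h3]
    exact h1.comp (hx F hF)
  intro F hF
  let e : (F⟦-n⟧)⟦n⟧ ≅ F := (shiftFunctorCompIsoId C (-n) n (by lia)).app F
  have h1 := key (F⟦-n⟧) (Q.le_shift (-n) _ hF)
  have h2 : Function.Bijective (fun φ : L⟦n⟧ ⟶ F => φ ≫ e.inv) := (e.symm.homToEquiv (Z := L⟦n⟧)).bijective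
  have h3 : Function.Bijective (fun φ : K⟦n⟧ ⟶ g.obj ((F⟦-n⟧)⟦n⟧) => φ ≫ g.map e.hom) :=
    ((g.mapIso e).homToEquiv (Z := K⟦n⟧)).bijective
  convert h3.comp (h1.comp h2) using 2 with φ
  simp only [Function.comp_apply, assoc, Functor.map_comp]
  rw [← g.map_comp e.inv, e.inv_hom_id, g.map_id, comp_id]

instance : (Def g Q).IsStableUnderShift ℤ where
  isStableUnderShiftBy n := ⟨by
    rintro K ⟨L, hL, x, hx⟩
    exact ⟨L⟦n⟧, Q.le_shift n _ hL, _, hx.shift g n⟩⟩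

instance : (Def g Q).ContainsZero where
  exists_zero := by
    obtain ⟨Z, hZ, hQ⟩ := ObjectProperty.exists_prop_of_containsZero Q
    refine ⟨_, isZero_zero D, Z, hQ, 0, fun F hF => ⟨fun a b _ => hZ.eq_of_src a b, fun y => ⟨0, ?_⟩⟩⟩
    exact (isZero_zero D).eq_of_src _ _

/-- Universal arrows in triangles. -/
lemma exists_univ_triangle {T : Triangle D} (hT : T ∈ distTriang D) {L₁ L₃ : C} (hL₁ : Q L₁) (hL₃ : Q L₃)
    {x₁ : T.obj₁ ⟶ g.obj L₁} (hx₁ : IsUniv g Q x₁) {x₃ : T.obj₃ ⟶ g.obj L₃} (hx₃ : IsUniv g Q x₃) :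
    Def g Q T.obj₂ := by
  have hx₁' := hx₁.shift g 1
  obtain ⟨h, hh⟩ := (hx₃ _ (Q.le_shift 1 _ hL₁)).2
    (T.mor₃ ≫ x₁⟦(1 : ℤ)⟧' ≫ (g.commShiftIso (1 : ℤ)).inv.app L₁)
  have hh' : x₃ ≫ g.map h = T.mor₃ ≫ x₁⟦(1 : ℤ)⟧' ≫ (g.commShiftIso (1 : ℤ)).inv.app L₁ := hh
  obtain ⟨L₂, a, b, hL⟩ := distinguished_cocone_triangle₂ h
  have hL₂ : Q L₂ := Q.ext_of_isTriangulatedClosed₂ _ hL hL₁ hL₃
  have hgL := g.map_distinguished _ hL
  have comm₃ : T.mor₃ ≫ x₁⟦(1 : ℤ)⟧' = x₃ ≫ g.map h ≫ (g.commShiftIso (1 : ℤ)).hom.app L₁ := by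
    rw [reassoc_of% hh', Iso.inv_hom_id_app]
    simp
  obtain ⟨x₂, c1', c2'⟩ : ∃ x₂ : T.obj₂ ⟶ g.obj L₂, T.mor₁ ≫ x₂ = x₁ ≫ g.map a ∧
      T.mor₂ ≫ x₃ = x₂ ≫ g.map b :=
    complete_distinguished_triangle_morphism₂ T _ hT hgL x₁ x₃ comm₃
  refine ⟨L₂, hL₂, x₂, fun F hF => ⟨?_, ?_⟩⟩
  · suffices H : ∀ φ : L₂ ⟶ F, x₂ ≫ g.map φ = 0 → φ = 0 by
      intro φ φ' hφ
      rw [← sub_eq_zero]
      apply H
      rw [g.map_sub, Preadditive.comp_sub, sub_eq_zero]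
      exact hφ
    intro φ hφ
    have e1 : a ≫ φ = 0 := by
      apply (hx₁ F hF).1
      dsimp only
      rw [g.map_comp, ← assoc, ← c1', assoc, hφ, comp_zero, g.map_zero, comp_zero]
    obtain ⟨ψ, hψ'⟩ : ∃ ψ : L₃ ⟶ F, φ = b ≫ ψ := Triangle.yoneda_exact₂ _ hL φ e1
    have e2 : T.mor₂ ≫ x₃ ≫ g.map ψ = 0 := by
      rw [reassoc_of% c2', ← g.map_comp, ← hψ', hφ]
    obtain ⟨χ, hχ⟩ := Triangle.yoneda_exact₃ _ hT _ e2
    obtain ⟨ω, hω⟩ := (hx₁' F hF).2 χ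
    have hω' : (x₁⟦(1 : ℤ)⟧' ≫ (g.commShiftIso (1 : ℤ)).inv.app L₁) ≫ g.map ω = χ := hω
    have e3 : ψ = h ≫ ω := by
      apply (hx₃ F hF).1
      dsimp only
      rw [hχ, ← hω', g.map_comp, reassoc_of% hh', assoc]
    have e4 : b ≫ h = 0 := comp_distTriang_mor_zero₂₃ _ hL
    rw [hψ', e3, reassoc_of% e4, zero_comp]
  · intro y
    obtain ⟨α, hα⟩ := (hx₁ F hF).2 (T.mor₁ ≫ y)
    have hα' : x₁ ≫ g.map α = T.mor₁ ≫ y := hα
    have e1 : h ≫ α⟦(1 : ℤ)⟧' = 0 := by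
      apply (hx₃ _ (Q.le_shift 1 _ hF)).1
      dsimp only
      have h0 : T.mor₃ ≫ T.mor₁⟦(1 : ℤ)⟧' = 0 := comp_distTriang_mor_zero₃₁ _ hT
      have h1 := (g.commShiftIso (1 : ℤ)).inv.naturality α
      dsimp at h1
      rw [g.map_comp, reassoc_of% hh', ← h1, ← Functor.map_comp_assoc, hα', Functor.map_comp_assoc,
        reassoc_of% h0, zero_comp, g.map_zero, comp_zero]
    obtain ⟨γ, hγ'⟩ : ∃ γ : L₂⟦(1 : ℤ)⟧ ⟶ F⟦(1 : ℤ)⟧, α⟦(1 : ℤ)⟧' = (-a⟦(1 : ℤ)⟧') ≫ γ :=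
      Triangle.yoneda_exact₂ _ (rot_of_distTriang _ (rot_of_distTriang _ hL)) (α⟦(1 : ℤ)⟧') e1
    obtain ⟨β, hβ⟩ := (shiftFunctor C (1 : ℤ)).map_surjective γ
    have e2 : α = a ≫ (-β) := by
      apply (shiftFunctor C (1 : ℤ)).map_injective
      rw [hγ', ← hβ, Functor.map_comp, Functor.map_neg, Preadditive.neg_comp, Preadditive.comp_neg]
    have e3 : T.mor₁ ≫ (y - x₂ ≫ g.map (-β)) = 0 := by
      rw [Preadditive.comp_sub, ← hα', reassoc_of% c1', ← g.map_comp, ← e2, sub_self]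
    obtain ⟨z, hz⟩ := Triangle.yoneda_exact₂ _ hT _ e3
    obtain ⟨ζ, hζ⟩ := (hx₃ F hF).2 z
    have hζ' : x₃ ≫ g.map ζ = z := hζ
    refine ⟨-β + b ≫ ζ, ?_⟩
    dsimp only
    rw [g.map_add, Preadditive.comp_add, g.map_comp, ← reassoc_of% c2', hζ', ← hz]
    abel

instance : (Def g Q).IsTriangulatedClosed₂ :=
  .mk' (fun _ hT ⟨_, hL₁, _, hx₁⟩ ⟨_, hL₃, _, hx₃⟩ => exists_univ_triangle g Q hT hL₁ hL₃ hx₁ hx₃)

instance : (Def g Q).IsTriangulated where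

end Tri

end K369.PartialAdj
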