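import Groth.Agent.Dcoh.DualMap
import Groth.Agent.Perf.K369.PartialAdj

/-!
# Universal arrows `K ⟶ F L ⊗ E` and dualizable objects

`F : C ⥤ D` monoidal, `x : K ⟶ F L ⊗ E` universal.  Then `Hom(T ⊗ L, M) ≅ Hom(F T ⊗ K, F M ⊗ E)` for `T`
dualizable, the map being natural in all `T`.
-/

set_option autoImplicit false

universe v₁ v₂ u₁ u₂

open CategoryTheory MonoidalCategory Functor.LaxMonoidal Functor.OplaxMonoidal Functor.Monoidal

namespace K369.MonPairing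

open Groth.Agent.Dcoh PartialAdj

section

variable {C : Type u₁} [Category.{v₁} C] [MonoidalCategory C]

lemma homEquiv_whiskerLeft {X X' Y Y' Z : C} [ExactPairing Y Y'] (u : X' ⟶ X) (g : Y' ⊗ X ⟶ Z) :
    tensorLeftHomEquiv X' Y Y' Z (Y' ◁ u ≫ g) = u ≫ tensorLeftHomEquiv X Y Y' Z g := by
  rw [← Equiv.eq_symm_apply, tensorLeftHomEquiv_symm_naturality, Equiv.symm_apply_apply]

lemma homEquiv_whiskerRight {X Y Y' Z : C} [ExactPairing Y Y'] (E : C) (g : Y' ⊗ X ⟶ Z) :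
    tensorLeftHomEquiv (X ⊗ E) Y Y' (Z ⊗ E) ((α_ Y' X E).inv ≫ g ▷ E) =
      tensorLeftHomEquiv X Y Y' Z g ▷ E ≫ (α_ Y Z E).hom := by
  simp [tensorLeftHomEquiv]

end

variable {C : Type u₁} [Category.{v₁} C] [MonoidalCategory C] {D : Type u₂} [Category.{v₂} D]
  [MonoidalCategory D] (F : C ⥤ D) [F.Monoidal]

lemma map_homEquiv (T T' L M : C) [ExactPairing T' T] (β : T ⊗ L ⟶ M) :
    letI := DualMap.mapPairing F T' T
    tensorLeftHomEquiv (F.obj L) (F.obj T') (F.obj T) (F.obj M) (μ F T L ≫ F.map β) =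
      F.map (tensorLeftHomEquiv L T' T M β) ≫ δ F T' M := by
  let _ := DualMap.mapPairing F T' T
  have h : η_ (F.obj T') (F.obj T) = ε F ≫ F.map (η_ T' T) ≫ δ F T' T := rfl
  change (λ_ (F.obj L)).inv ≫ η_ (F.obj T') (F.obj T) ▷ F.obj L ≫ (α_ (F.obj T') (F.obj T) (F.obj L)).hom ≫
    F.obj T' ◁ (μ F T L ≫ F.map β) =
    F.map ((λ_ L).inv ≫ η_ T' T ▷ L ≫ (α_ T' T L).hom ≫ T' ◁ β) ≫ δ F T' M
  rw [h]
  simp

variable {F} {E K : D} {L : C} (x : K ⟶ F.obj L ⊗ E)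

/-- The map `Hom(T ⊗ L, M) ⟶ Hom(F T ⊗ K, F M ⊗ E)`. -/
def psi (T M : C) (β : T ⊗ L ⟶ M) : F.obj T ⊗ K ⟶ F.obj M ⊗ E :=
  F.obj T ◁ x ≫ (α_ (F.obj T) (F.obj L) E).inv ≫ (μ F T L ≫ F.map β) ▷ E

lemma psi_nat {T T' M : C} (u : T' ⟶ T) (β : T ⊗ L ⟶ M) :
    psi x T' M (u ▷ L ≫ β) = F.map u ▷ K ≫ psi x T M β := by
  have h1 : μ F T' L ▷ E ≫ F.map (u ▷ L) ▷ E = F.map u ▷ F.obj L ▷ E ≫ μ F T L ▷ E := by
    rw [← comp_whiskerRight, ← comp_whiskerRight, μ_natural_left]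
  simp only [psi, Functor.map_comp, comp_whiskerRight]
  rw [reassoc_of% h1, ← whisker_exchange_assoc]
  simp

lemma homEquiv_psi (T T' M : C) [ExactPairing T' T] (β : T ⊗ L ⟶ M) :
    letI := DualMap.mapPairing F T' T
    tensorLeftHomEquiv K (F.obj T') (F.obj T) (F.obj M ⊗ E) (psi x T M β) =
      (x ≫ F.map (tensorLeftHomEquiv L T' T M β) ▷ E) ≫ δ F T' M ▷ E ≫
        (α_ (F.obj T') (F.obj M) E).hom := by
  let _ := DualMap.mapPairing F T' T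
  have h := map_homEquiv F T T' L M β
  rw [psi, homEquiv_whiskerLeft, homEquiv_whiskerRight, h]
  simp

theorem bijective_psi {Q : ObjectProperty C} (hx : IsUniv (F ⋙ tensorRight E) Q x) (T T' M : C)
    [ExactPairing T' T] (hM : Q (T' ⊗ M)) : Function.Bijective (psi x T M) := by
  let _ := DualMap.mapPairing F T' T
  have b1 := (tensorLeftHomEquiv L T' T M).bijective
  have b2 : Function.Bijective (fun φ : L ⟶ T' ⊗ M => x ≫ F.map φ ▷ E) := hx _ hM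
  let i : F.obj (T' ⊗ M) ⊗ E ≅ F.obj T' ⊗ (F.obj M ⊗ E) :=
    whiskerRightIso (μIso F T' M).symm E ≪≫ α_ _ _ _
  have b3 : Function.Bijective (fun φ : K ⟶ F.obj (T' ⊗ M) ⊗ E => φ ≫ i.hom) := (i.homToEquiv (Z := K)).bijective
  have b4 := (tensorLeftHomEquiv K (F.obj T') (F.obj T) (F.obj M ⊗ E)).bijective
  refine (Function.Bijective.of_comp_iff' b4 _).1 ?_
  have e : (tensorLeftHomEquiv K (F.obj T') (F.obj T) (F.obj M ⊗ E)) ∘ (psi x T M) =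
      (fun φ : K ⟶ F.obj (T' ⊗ M) ⊗ E => φ ≫ i.hom) ∘ (fun φ : L ⟶ T' ⊗ M => x ≫ F.map φ ▷ E) ∘
        (tensorLeftHomEquiv L T' T M) := by
    funext β
    exact homEquiv_psi x T T' M β
  rw [e]
  exact b3.comp (b2.comp b1)

end K369.MonPairing
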