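import Groth.Agent.Perf.K369.QCohKInj
import Groth.Agent.Dcoh.DerComp2
import Groth.Agent.PerfC.FlatExact
import Groth.Agent.FormalA.PullbackQC
import Mathlib.CategoryTheory.Adjunction.Restrict

/-!
# Derived coherators and flat direct images
-/

set_option autoImplicit false
universe v u

open CategoryTheory CategoryTheory.Limits AlgebraicGeometry
attribute [local instance] HasDerivedCategory.standard

namespace K369.QCohCoh

open Groth.Agent Groth.Agent.Dcoh.DerAbs Groth.Agent.Dcoh.DerHo Groth.Agent.Dcoh.DerAdj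
  Groth.Agent.Dcoh.DerComp Groth.Agent.Dcoh.DerSch K369.QCohKInj

section

variable {X Y : Scheme.{u}} (f : X ⟶ Y)
  (hf : ∀ M : X.Modules, Coh.IsQCoh M → Coh.IsQCoh ((Scheme.Modules.pushforward f).obj M))

/-- `f_*` on quasi-coherent modules. -/
noncomputable abbrev pushQ : ObjectProperty.FullSubcategory (fun M : X.Modules => Coh.IsQCoh M) ⥤
    ObjectProperty.FullSubcategory (fun M : Y.Modules => Coh.IsQCoh M) :=
  ObjectProperty.lift (fun M : Y.Modules => Coh.IsQCoh M)
    (ObjectProperty.ι (fun M : X.Modules => Coh.IsQCoh M) ⋙ Scheme.Modules.pushforward f)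
    (fun M => hf M.obj M.property)

/-- `f^*` on quasi-coherent modules. -/
noncomputable abbrev pullQ : ObjectProperty.FullSubcategory (fun M : Y.Modules => Coh.IsQCoh M) ⥤
    ObjectProperty.FullSubcategory (fun M : X.Modules => Coh.IsQCoh M) :=
  ObjectProperty.lift (fun M : X.Modules => Coh.IsQCoh M)
    (ObjectProperty.ι (fun M : Y.Modules => Coh.IsQCoh M) ⋙ Scheme.Modules.pullback f)
    (fun M => FormalA.PullbackQC.isQCoh_pullback f M.obj M.property)

/-- `f^* ⊣ f_*` on quasi-coherent modules. -/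
noncomputable def adjQ : pullQ f ⊣ pushQ f hf :=
  (Scheme.Modules.pullbackPushforwardAdjunction f).restrictFullyFaithful
    (ObjectProperty.fullyFaithfulι _) (ObjectProperty.fullyFaithfulι _) (Iso.refl _) (Iso.refl _)

variable (QX : X.Modules ⥤ ObjectProperty.FullSubcategory (fun M : X.Modules => Coh.IsQCoh M))
  (adjX : ObjectProperty.ι (fun M : X.Modules => Coh.IsQCoh M) ⊣ QX)
  (QY : Y.Modules ⥤ ObjectProperty.FullSubcategory (fun M : Y.Modules => Coh.IsQCoh M))
  (adjY : ObjectProperty.ι (fun M : Y.Modules => Coh.IsQCoh M) ⊣ QY)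

/-- The coherator commutes with direct images. -/
noncomputable def coheratorPush : Scheme.Modules.pushforward f ⋙ QY ≅ QX ⋙ pushQ f hf :=
  Adjunction.rightAdjointUniq (adjY.comp (Scheme.Modules.pullbackPushforwardAdjunction f))
    (((adjQ f hf).comp adjX).ofNatIsoLeft (Iso.refl _))

end

section Derived

variable {X Y : Scheme.{u}} (f : X ⟶ Y) [Flat f] [DCoh.HasRpush f]
  [ObjectProperty.ContainsZero (fun M : X.Modules => Coh.IsQCoh M)]
  [ObjectProperty.IsClosedUnderKernels (fun M : X.Modules => Coh.IsQCoh M)]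
  [ObjectProperty.IsClosedUnderCokernels (fun M : X.Modules => Coh.IsQCoh M)]
  [ObjectProperty.IsClosedUnderFiniteProducts (fun M : X.Modules => Coh.IsQCoh M)]
  [PreservesFiniteLimits (ObjectProperty.ι (fun M : X.Modules => Coh.IsQCoh M))]
  [PreservesFiniteColimits (ObjectProperty.ι (fun M : X.Modules => Coh.IsQCoh M))]
  [ObjectProperty.ContainsZero (fun M : Y.Modules => Coh.IsQCoh M)]
  [ObjectProperty.IsClosedUnderKernels (fun M : Y.Modules => Coh.IsQCoh M)]
  [ObjectProperty.IsClosedUnderCokernels (fun M : Y.Modules => Coh.IsQCoh M)]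
  [ObjectProperty.IsClosedUnderFiniteProducts (fun M : Y.Modules => Coh.IsQCoh M)]
  [PreservesFiniteLimits (ObjectProperty.ι (fun M : Y.Modules => Coh.IsQCoh M))]
  [PreservesFiniteColimits (ObjectProperty.ι (fun M : Y.Modules => Coh.IsQCoh M))]
  (QX : X.Modules ⥤ ObjectProperty.FullSubcategory (fun M : X.Modules => Coh.IsQCoh M))
  (adjX : ObjectProperty.ι (fun M : X.Modules => Coh.IsQCoh M) ⊣ QX)
  (QY : Y.Modules ⥤ ObjectProperty.FullSubcategory (fun M : Y.Modules => Coh.IsQCoh M))
  (adjY : ObjectProperty.ι (fun M : Y.Modules => Coh.IsQCoh M) ⊣ QY)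
  [QX.Additive] [QY.Additive]
  (hf : ∀ M : X.Modules, Coh.IsQCoh M → Coh.IsQCoh ((Scheme.Modules.pushforward f).obj M))
  [(pushQ f hf).Additive]

include adjX adjY in
/-- The derived comparison. -/
theorem nonempty_iso
    (RQX : DerivedCategory X.Modules ⥤
      DerivedCategory (ObjectProperty.FullSubcategory (fun M : X.Modules => Coh.IsQCoh M)))
    (βX : mapQh QX ⟶ DerivedCategory.Qh ⋙ RQX) [RQX.IsRightDerivedFunctor βX (qis _)]
    (RQY : DerivedCategory Y.Modules ⥤
      DerivedCategory (ObjectProperty.FullSubcategory (fun M : Y.Modules => Coh.IsQCoh M)))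
    (βY : mapQh QY ⟶ DerivedCategory.Qh ⋙ RQY) [RQY.IsRightDerivedFunctor βY (qis _)]
    (Φ : DerivedCategory (ObjectProperty.FullSubcategory (fun M : X.Modules => Coh.IsQCoh M)) ⥤
      DerivedCategory (ObjectProperty.FullSubcategory (fun M : Y.Modules => Coh.IsQCoh M)))
    (β : mapQh (pushQ f hf) ⟶ DerivedCategory.Qh ⋙ Φ)
    [Φ.IsRightDerivedFunctor β (qis _)] :
    Nonempty (DCoh.Rpush f ⋙ RQY ≅ RQX ⋙ Φ) := by
  let G := QX ⋙ pushQ f hf
  have hR := hasRightDerivedFunctor (hasKInj X) (mapQh G)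
  have hp : PreservesFiniteLimits (Scheme.Modules.pullback f) :=
    PerfC.FlatExact.preservesFiniteLimits_pullback f
  have hpa : (Scheme.Modules.pullback f).Additive := inferInstance
  obtain ⟨i₁, -⟩ := nonempty_compIso_right (coheratorPush f hf QX adjX QY adjY) (hasKInj X) (hasKInj Y)
    (isKInjective_map (Scheme.Modules.pullbackPushforwardAdjunction f) (acyclic_map_exact _))
    (DCoh.Rpush f) (rpushUnit f) RQY βY
    ((mapQh G).totalRightDerived DerivedCategory.Qh (qis _))
    ((mapQh G).totalRightDerivedUnit DerivedCategory.Qh (qis _))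
  obtain ⟨i₂, -⟩ := nonempty_compIso_right (Iso.refl G) (hasKInj X) (hasKInj_qcoh X)
    (isKInjective_map adjX (acyclic_map_exact _)) RQX βX Φ β
    ((mapQh G).totalRightDerived DerivedCategory.Qh (qis _))
    ((mapQh G).totalRightDerivedUnit DerivedCategory.Qh (qis _))
  exact ⟨i₁ ≪≫ i₂.symm⟩

end Derived

end K369.QCohCoh
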