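import Groth.Agent.QCohCat.K658.Abel
import Groth.Agent.Dcoh.DerSch

/-!
# K-injective resolutions in `QCoh(X)`, for every scheme `X`
-/

set_option autoImplicit false
universe v u

open CategoryTheory CategoryTheory.Limits AlgebraicGeometry
attribute [local instance] HasDerivedCategory.standard

namespace K369.QCohKInj

open Groth.Agent Groth.Agent.Dcoh.DerAbs Groth.Agent.Dcoh.DerHo Groth.Agent.Dcoh.DerAdj
  Groth.Agent.Dcoh.DerComp

/-- K-injective resolutions with injective terms in Grothendieck abelian categories. -/
theorem hasKInj_of_isGrothendieckAbelian (A : Type u) [Category.{v} A] [Abelian A]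
    [IsGrothendieckAbelian.{v} A] : HasKInj A := by
  intro K
  obtain ⟨I, f, hI, hf, -⟩ := Groth.Agent.S0476.result K
  exact ⟨I, f, hI, hf⟩

/-- To check that a natural transformation is an isomorphism on K-injective complexes it suffices to consider
K-injective complexes of injective objects. -/
theorem isIso_app_of_injective_terms {A : Type u} [Category.{v} A] [Abelian A]
    [IsGrothendieckAbelian.{v} A] {H : Type*} [Category H]
    {F G : HomotopyCategory A (ComplexShape.up ℤ) ⥤ H} (τ : F ⟶ G)
    (hτ : ∀ I : CochainComplex A ℤ, I.IsKInjective → (∀ n, Injective (I.X n)) →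
      IsIso (τ.app ((HomotopyCategory.quotient A _).obj I)))
    (I : CochainComplex A ℤ) (hI : I.IsKInjective) :
    IsIso (τ.app ((HomotopyCategory.quotient A _).obj I)) := by
  obtain ⟨J, f, hJ, hf, -, hJinj⟩ := Groth.Agent.S0476.result I
  have h1 : HomotopyCategory.quasiIso A (ComplexShape.up ℤ)
      ((HomotopyCategory.quotient A (ComplexShape.up ℤ)).map f) := by
    rw [HomotopyCategory.quotient_map_mem_quasiIso_iff]
    exact hf
  have h2 : IsIso ((HomotopyCategory.quotient A (ComplexShape.up ℤ)).map f) :=
    isIso_of_kInj _ (kInj_quotient_obj I hI) (kInj_quotient_obj J hJ) h1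
  have h3 := hτ J hJ hJinj
  have h4 := τ.naturality ((HomotopyCategory.quotient A (ComplexShape.up ℤ)).map f)
  have h5 : IsIso (F.map ((HomotopyCategory.quotient A (ComplexShape.up ℤ)).map f) ≫ τ.app _) :=
    IsIso.comp_isIso' inferInstance h3
  rw [h4] at h5
  exact IsIso.of_isIso_comp_right _ (G.map ((HomotopyCategory.quotient A (ComplexShape.up ℤ)).map f))

section QCoh

variable (X : Scheme.{u})
  [ObjectProperty.ContainsZero (fun M : X.Modules => Coh.IsQCoh M)]
  [ObjectProperty.IsClosedUnderKernels (fun M : X.Modules => Coh.IsQCoh M)]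
  [ObjectProperty.IsClosedUnderCokernels (fun M : X.Modules => Coh.IsQCoh M)]
  [ObjectProperty.IsClosedUnderFiniteProducts (fun M : X.Modules => Coh.IsQCoh M)]

/-- Quasi-coherent modules form a Grothendieck abelian category. -/
theorem isGrothendieckAbelian_qcoh :
    IsGrothendieckAbelian.{u} (ObjectProperty.FullSubcategory (fun M : X.Modules => Coh.IsQCoh M)) :=
  K658.Abel.isGrothendieckAbelian X

theorem hasKInj_qcoh :
    HasKInj (ObjectProperty.FullSubcategory (fun M : X.Modules => Coh.IsQCoh M)) := by
  have := isGrothendieckAbelian_qcoh X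
  exact hasKInj_of_isGrothendieckAbelian _

end QCoh

end K369.QCohKInj
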