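import Groth.Agent.Perf.K369.QCohKInj
import Groth.Agent.Dcoh.DerComp2
import Groth.Agent.S1035

/-!
# The right derived functor of `f_* : QCoh(X) ⥤ QCoh(Y)` and `Rf_*`
-/

set_option autoImplicit false
universe v u

open CategoryTheory CategoryTheory.Limits AlgebraicGeometry
attribute [local instance] HasDerivedCategory.standard

namespace K369.QCohPush

open Groth.Agent Groth.Agent.Dcoh.DerAbs Groth.Agent.Dcoh.DerHo Groth.Agent.Dcoh.DerAdj
  Groth.Agent.Dcoh.DerComp Groth.Agent.Dcoh.DerSch K369.QCohKInj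

section

variable {X Y : Scheme.{u}} (f : X ⟶ Y) [DCoh.HasRpush f]
  [ObjectProperty.ContainsZero (fun M : X.Modules => Coh.IsQCoh M)]
  [ObjectProperty.IsClosedUnderKernels (fun M : X.Modules => Coh.IsQCoh M)]
  [ObjectProperty.IsClosedUnderCokernels (fun M : X.Modules => Coh.IsQCoh M)]
  [ObjectProperty.IsClosedUnderFiniteProducts (fun M : X.Modules => Coh.IsQCoh M)]
  [PreservesFiniteLimits (ObjectProperty.ι (fun M : X.Modules => Coh.IsQCoh M))]
  [PreservesFiniteColimits (ObjectProperty.ι (fun M : X.Modules => Coh.IsQCoh M))]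
  [ObjectProperty.ContainsZero (fun M : Y.Modules => Coh.IsQCoh M)]
  [ObjectProperty.IsClosedUnderKernels (fun M : Y.Modules => Coh.IsQCoh M)]
  [ObjectProperty.IsClosedUnderCokernels (fun M : Y.Modules => Coh.IsQCoh M)]
  [ObjectProperty.IsClosedUnderFiniteProducts (fun M : Y.Modules => Coh.IsQCoh M)]
  [PreservesFiniteLimits (ObjectProperty.ι (fun M : Y.Modules => Coh.IsQCoh M))]
  [PreservesFiniteColimits (ObjectProperty.ι (fun M : Y.Modules => Coh.IsQCoh M))]
  (hf : ∀ M : X.Modules, Coh.IsQCoh M → Coh.IsQCoh ((Scheme.Modules.pushforward f).obj M))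

/-- `f_*` on quasi-coherent modules. -/
noncomputable abbrev pushQ : ObjectProperty.FullSubcategory (fun M : X.Modules => Coh.IsQCoh M) ⥤
    ObjectProperty.FullSubcategory (fun M : Y.Modules => Coh.IsQCoh M) :=
  ObjectProperty.lift (fun M : Y.Modules => Coh.IsQCoh M)
    (ObjectProperty.ι (fun M : X.Modules => Coh.IsQCoh M) ⋙ Scheme.Modules.pushforward f)
    (fun M => hf M.obj M.property)

/-- The comparison, for any right derived functor of `f_*` on quasi-coherent modules, when injective
quasi-coherent modules are acyclic for `f_*`. -/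
theorem nonempty_iso [QuasiCompact f] [QuasiSeparated f] [(pushQ f hf).Additive]
    (hac : ∀ J : ObjectProperty.FullSubcategory (fun M : X.Modules => Coh.IsQCoh M), Injective J →
      ∀ (_ : HasInjectiveResolutions X.Modules) (i : ℕ), 0 < i → IsZero ((Coh.Rpush f i).obj J.obj))
    (Φ : DerivedCategory (ObjectProperty.FullSubcategory (fun M : X.Modules => Coh.IsQCoh M)) ⥤
      DerivedCategory (ObjectProperty.FullSubcategory (fun M : Y.Modules => Coh.IsQCoh M)))
    (β : mapQh (pushQ f hf) ⟶ DerivedCategory.Qh ⋙ Φ)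
    [Φ.IsRightDerivedFunctor β (qis _)] :
    Nonempty (Φ ⋙ (ObjectProperty.ι (fun M : Y.Modules => Coh.IsQCoh M)).mapDerivedCategory ≅
      (ObjectProperty.ι (fun M : X.Modules => Coh.IsQCoh M)).mapDerivedCategory ⋙ DCoh.Rpush f) := by
  let ιX := ObjectProperty.ι (fun M : X.Modules => Coh.IsQCoh M)
  let ιY := ObjectProperty.ι (fun M : Y.Modules => Coh.IsQCoh M)
  have := isGrothendieckAbelian_qcoh X
  have hK := hasKInj_qcoh X
  let G := ιX ⋙ Scheme.Modules.pushforward f
  have hR := hasRightDerivedFunctor hK (mapQh G)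
  obtain ⟨i₁, -⟩ := nonempty_compIso_right_of_isIso (G₁ := pushQ f hf) (G₂ := ιY) (G₃ := G)
    (Iso.refl G) hK Φ β ιY.mapDerivedCategory ιY.mapDerivedCategoryFactorsh.inv
    (fun _ _ ↦ inferInstance)
    ((mapQh G).totalRightDerived DerivedCategory.Qh (qis _))
    ((mapQh G).totalRightDerivedUnit DerivedCategory.Qh (qis _))
  have hinj : HasInjectiveResolutions X.Modules := hasInjectiveResolutions X
  have hac' : ∀ I : CochainComplex (ObjectProperty.FullSubcategory (fun M : X.Modules => Coh.IsQCoh M)) ℤ,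
      I.IsKInjective → (∀ n, Injective (I.X n)) → IsIso ((rpushUnit f).app
        ((ιX.mapHomotopyCategory (ComplexShape.up ℤ)).obj ((HomotopyCategory.quotient _ _).obj I))) := by
    intro I hI hIinj
    exact S1035.result f ((ιX.mapHomologicalComplex (ComplexShape.up ℤ)).obj I)
      (fun n => (I.X n).property) (fun n i hi => hac (I.X n) (hIinj n) hinj i hi)
  have hd := isRightDerivedFunctor_mapDerivedCategory ιX
  obtain ⟨i₂, -⟩ := nonempty_compIso_right_of_isIso (G₁ := ιX) (G₂ := Scheme.Modules.pushforward f)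
    (G₃ := G) (Iso.refl G) hK ιX.mapDerivedCategory ιX.mapDerivedCategoryFactorsh.inv
    (DCoh.Rpush f) (rpushUnit f)
    (fun I hI => isIso_app_of_injective_terms
      (Functor.whiskerLeft (ιX.mapHomotopyCategory (ComplexShape.up ℤ)) (rpushUnit f))
      (fun J hJ hJinj => hac' J hJ hJinj) I hI)
    ((mapQh G).totalRightDerived DerivedCategory.Qh (qis _))
    ((mapQh G).totalRightDerivedUnit DerivedCategory.Qh (qis _))
  exact ⟨i₁ ≪≫ i₂.symm⟩

end

end K369.QCohPush
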