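import Groth.Agent.Perf.K369.TensCorep
import Groth.Agent.Dcoh.PerfFlat
import Groth.Agent.Dcoh.DerPull2
import Groth.Agent.Dual.H339.DualBound

/-!
# The pseudo-coherent dual of `Rf_* RHom(K, E)`

`f : X ⟶ S` proper, flat and of finite presentation, `E` perfect relative to `S`.  The functor `Lf^* - ⊗ᴸ E` has a
left adjoint on `D_QCoh`, which preserves perfect and pseudo-coherent objects.
-/

set_option autoImplicit false

universe u v v' w

open CategoryTheory Limits MonoidalCategory AlgebraicGeometry Pretriangulated Triangulated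
attribute [local instance] HasDerivedCategory.standard

open scoped Groth.Agent.Dcoh.MonCat Groth.Agent.Dcoh.ModD

namespace K369.RelDual

open Groth.Agent Groth.Agent.Dcoh Groth.Agent.Dcoh.ModD Groth.Agent.Dual.H323.PerfPush PartialAdj
  Groth.Agent.PerfC.DTens TensCorep Groth.Agent.PerfC.IsoLocus

variable {X S : Scheme.{u}} (f : X ⟶ S)

section C

/-- `Rf_*(V ⊗ᴸ E)` is perfect for `V` perfect and `E` perfect relative to `S`. -/
theorem isPerfect_push [Flat f] [IsProper f] [LocallyOfFinitePresentation f] [DCoh.HasRpush f] {E : DCoh.D X}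
    (hEpc : ∀ m : ℤ, DCoh.IsPseudoCoherentD m E) (hEtor : DCoh.LocHasFiniteRelTorDim f E) (V : DCoh.D X)
    (hV : DCoh.IsPerfect V) : DCoh.IsPerfect ((DCoh.Rpush f).obj (V ⊗ E)) := by
  have := DerPull.hasLpull (𝟙 X)
  obtain ⟨e⟩ := PerfDual.nonempty_iso V E
  let e1 : (DCoh.Lpull (𝟙 X)).obj E ≅ E := (DerPull.lpullOpenIso (𝟙 X) ≪≫ LocalD.restrictIdIso X).app E
  have h1 := Dual.H359.CompFin.locHasFiniteRelTorDim_tensor (𝟙 X) f
    ((Models2.TorDimRel.locHasFiniteTorDim_iff_rel V).2 ((PerfFlat.isPerfect_iff V).1 hV).2) hEtor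
  rw [Category.id_comp] at h1
  have h2 : DCoh.LocHasFiniteRelTorDim f (V ⊗ E) :=
    Dual.H352.RelOpc.locHasFiniteRelTorDim_of_iso (((LTX X).obj V).mapIso e1 ≪≫ e) h1
  have h3 : ∀ m, DCoh.IsPseudoCoherentD m (V ⊗ E) := fun m =>
    LocalD.isPseudoCoherentD_of_iso e (Dual.H359.CompFin.pc_tensor
      (fun m => PerfA.PCohQCoh.isPseudoCoherentD_of_isPerfect hV m) hEpc m)
  exact S1094.result f _ h3 h2

/-- `Lf^* - ⊗ᴸ E` can be given the structure of a triangulated functor. -/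
lemma isTriang_G [DCoh.HasLpull f] (E : DCoh.D X) : IsTriang (G f E) := by
  obtain ⟨e⟩ := PerfDual.nonempty_flipIso E
  have h1 : IsTriang (DCoh.Lpull f) := ⟨DerPull.lpullCommShift f, DerPull.lpull_isTriangulated f⟩
  exact h1.comp ((isTriang_LTX_flip_obj E).of_iso e)

/-- The left adjoint of `Lf^* - ⊗ᴸ E` is defined on `D_QCoh(X)`. -/
theorem def_of_isQCohD [CompactSpace X] [QuasiSeparatedSpace X] [DCoh.HasLpull f] (E : DCoh.D X)
    (hperf : ∀ P : DCoh.D X, DCoh.IsPerfect P → ∃ (B : DCoh.D S) (_ : DCoh.IsPerfect B)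
      (x : P ⟶ (G f E).obj B), IsUniv (G f E) DCoh.IsQCohD x)
    (K : DCoh.D X) (hK : DCoh.IsQCohD K) : Def (G f E) DCoh.IsQCohD K := by
  obtain ⟨_, _⟩ := isTriang_G f E
  refine PerfA.QCLim.prop_of_isQCohD X (Def (G f E) DCoh.IsQCohD) (fun J K' _ h => ?_) (fun P hP => ?_) K hK
  · exact def_coproduct K' (fun L hL => ⟨inferInstance, S1040.result S L hL⟩) h
  · obtain ⟨B, hB, x, hx⟩ := hperf P hP
    exact ⟨B, PerfA.PCohQCoh.isQCohD_of_isPerfect hB, x, hx⟩

end C

section D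

open DerivedCategory

/-- `Lf^* - ⊗ᴸ E` is bounded below. -/
theorem exists_isGE_G [CompactSpace X] [DCoh.HasLpull f] {E : DCoh.D X} (hEtor : DCoh.LocHasFiniteRelTorDim f E) :
    ∃ a : ℤ, ∀ (F : DCoh.D S) (c : ℤ), F.IsGE c → ((G f E).obj F).IsGE (a + c) := by
  choose V a hV h using fun x => Dual.H304.RelTens.exists_isGE_restrict f hEtor x
  obtain ⟨t, ht⟩ := isCompact_univ.elim_finite_subcover (fun x : X => (V x : Set X))
    (fun x => (V x).isOpen) (fun x _ => Set.mem_iUnion.2 ⟨x, hV x⟩)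
  obtain ⟨b, hb⟩ : ∃ b : ℤ, ∀ x ∈ t, b ≤ a x := by
    classical
    refine ⟨(insert 0 (t.image a)).min' (Finset.insert_nonempty _ _), fun x hx => ?_⟩
    exact Finset.min'_le _ _ (Finset.mem_insert_of_mem (Finset.mem_image_of_mem a hx))
  refine ⟨b, fun F c hF => ?_⟩
  obtain ⟨e⟩ := PerfDual.nonempty_flipIso E
  let s : (LTX X).flip.obj E ≅ (LTX X).obj E := (Groth.Agent.PerfC.LpullTens.symmIso X).app E
  let i : ((LTX X).obj E).obj ((DCoh.Lpull f).obj F) ≅ (G f E).obj F :=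
    (s.symm ≪≫ e).app ((DCoh.Lpull f).obj F)
  have key : (((LTX X).obj E).obj ((DCoh.Lpull f).obj F)).IsGE (b + c) := by
    refine PerfA.Restrict.isGE_of_restrictD_opens _ _ fun x => ?_
    obtain ⟨y, hy, hxy⟩ : ∃ y ∈ t, x ∈ V y := by simpa using ht (Set.mem_univ x)
    have h1 := h y F c hF
    have h2 := hb y hy
    refine ⟨V y, hxy, ?_⟩
    rw [isGE_iff] at h1 ⊢
    exact fun j hj => h1 j (by lia)
  exact TStructure.t.isGE_of_iso i (b + c)

/-- A cone bound. -/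
lemma isLE_cone {T : Triangle (DCoh.D X)} (hT : T ∈ distTriang (DCoh.D X)) (m : ℤ)
    (h1 : ∀ i : ℤ, m < i → IsIso ((homologyFunctor X.Modules i).map T.mor₁))
    (h2 : Epi ((homologyFunctor X.Modules m).map T.mor₁)) : T.obj₃.IsLE (m - 1) := by
  rw [isLE_iff]
  intro i hi
  have e1 : Epi ((homologyFunctor X.Modules i).map T.mor₁) := by
    by_cases h : i = m
    · subst h; exact h2
    · have := h1 i (by lia)
      infer_instance
  have e2 : Mono ((homologyFunctor X.Modules (i + 1)).map T.mor₁) := by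
    have := h1 (i + 1) (by lia)
    infer_instance
  exact (HomologySequence.exact₃ T hT i (i + 1) rfl).isZero_X₂
    ((HomologySequence.epi_homologyMap_mor₁_iff T hT i).1 e1)
    ((HomologySequence.mono_homologyMap_mor₁_iff T hT i (i + 1) rfl).1 e2)

/-- Conversely. -/
lemma of_isLE_cone {T : Triangle (DCoh.D X)} (hT : T ∈ distTriang (DCoh.D X)) (n : ℤ)
    (h : T.obj₃.IsLE (n - 1)) :
    (∀ i : ℤ, n < i → IsIso ((homologyFunctor X.Modules i).map T.mor₁)) ∧
      Epi ((homologyFunctor X.Modules n).map T.mor₁) := by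
  rw [isLE_iff] at h
  have h0 : ∀ i : ℤ, n ≤ i → Epi ((homologyFunctor X.Modules i).map T.mor₁) := fun i hi =>
    (HomologySequence.epi_homologyMap_mor₁_iff T hT i).2 ((h i (by lia)).eq_of_tgt _ _)
  refine ⟨fun i hi => ?_, h0 n le_rfl⟩
  have h1 := h0 i hi.le
  have h2 : Mono ((homologyFunctor X.Modules i).map T.mor₁) :=
    (HomologySequence.mono_homologyMap_mor₁_iff T hT (i - 1) i (by lia)).2
      ((h (i - 1) (by lia)).eq_of_src _ _)
  exact isIso_of_mono_of_epi _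

/-- An object without nonzero maps to `D_QCoh^{≥ n}` is in `D^{≤ n - 1}`. -/
lemma isLE_of_hom (C : DCoh.D S) (hC : DCoh.IsQCohD C) (n : ℤ)
    (h : ∀ F : DCoh.D S, DCoh.IsQCohD F → F.IsGE n → ∀ φ : C ⟶ F, φ = 0) : C.IsLE (n - 1) := by
  have h1 := h ((TStructure.t.truncGE n).obj C) (PerfA.QCohD.isQCohD_truncGE hC n)
    (TStructure.t.isGE_truncGE_obj C n n le_rfl) ((TStructure.t.truncGEπ n).app C)
  rw [isLE_iff]
  intro i hi
  have h2 := PerfA.PostAbs.isIso_homology_truncGEπ C n i (by lia)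
  have h3 : (homologyFunctor S.Modules i).map ((TStructure.t.truncGEπ n).app C) = 0 := by
    rw [h1, Functor.map_zero]
  have h4 : Mono ((homologyFunctor S.Modules i).map ((TStructure.t.truncGEπ n).app C)) :=
    @IsIso.mono_of_iso _ _ _ _ _ h2
  rw [IsZero.iff_id_eq_zero, ← cancel_mono ((homologyFunctor S.Modules i).map
    ((TStructure.t.truncGEπ n).app C)), h3, comp_zero, comp_zero]

/-- The left adjoint of `Lf^* - ⊗ᴸ E` preserves pseudo-coherent objects. -/
theorem isPseudoCoherentD_of_isUniv [CompactSpace X] [QuasiSeparatedSpace X] [DCoh.HasLpull f] (E : DCoh.D X)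
    (hperf : ∀ P : DCoh.D X, DCoh.IsPerfect P → ∃ (B : DCoh.D S) (_ : DCoh.IsPerfect B)
      (x : P ⟶ (G f E).obj B), IsUniv (G f E) DCoh.IsQCohD x)
    {a : ℤ} (ha : ∀ (F : DCoh.D S) (c : ℤ), F.IsGE c → ((G f E).obj F).IsGE (a + c))
    {K : DCoh.D X} (hK : ∀ m : ℤ, DCoh.IsPseudoCoherentD m K) {L : DCoh.D S} (hL : DCoh.IsQCohD L)
    {x : K ⟶ (G f E).obj L} (hx : IsUniv (G f E) DCoh.IsQCohD x) (n : ℤ) :
    DCoh.IsPseudoCoherentD n L := by
  obtain ⟨r, hr⟩ := S1103.result X Set.univ isClosed_univ (by simp)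
  obtain ⟨P, α, hP, -, h1, h2⟩ := hr (a + n - 1) K (PerfA.PCohQCoh.isQCohD_of_isPseudoCoherentD hK)
    (hK _) (fun _ _ => Set.subset_univ _)
  obtain ⟨B, hB, xP, hxP⟩ := hperf P hP
  obtain ⟨C, β, γ, hT⟩ := distinguished_cocone_triangle α
  have hC : C.IsLE (a + n - 1 - 1) := isLE_cone hT (a + n - 1) h1 h2
  obtain ⟨α', hα'⟩ := (hxP L hL).2 (α ≫ x)
  have hα : xP ≫ (G f E).map α' = α ≫ x := hα'
  -- maps to `D_QCoh^{≥ n}`
  have key : ∀ F : DCoh.D S, DCoh.IsQCohD F → F.IsGE n →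
      Function.Bijective (fun φ : L ⟶ F => α' ≫ φ) := by
    intro F hF hFn
    have b1 := Dual.H339.DualBound.bijective_precomp _ (inv_rot_of_distTriang _ hT) (a + n)
      (Dual.H339.DualBound.isLE_shift (a + n - 1 - 1) (-1) (a + n - 1) hC (by lia)) ((G f E).obj F)
      (ha F n hFn)
    have b2 := hx F hF
    have b3 := hxP F hF
    have b4 : (fun φ : B ⟶ F => xP ≫ (G f E).map φ) ∘ (fun φ : L ⟶ F => α' ≫ φ) =
        (fun g : K ⟶ (G f E).obj F => α ≫ g) ∘ (fun φ : L ⟶ F => x ≫ (G f E).map φ) := by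
      funext φ
      dsimp only [Function.comp_apply]
      rw [Functor.map_comp, ← Category.assoc, hα, Category.assoc]
    refine (Function.Bijective.of_comp_iff' b3 _).1 ?_
    rw [b4]
    exact Function.Bijective.comp b1 b2
  obtain ⟨C', β', γ', hT'⟩ := distinguished_cocone_triangle α'
  have hC' : C'.IsLE (n - 1) := by
    refine isLE_of_hom C' ?_ n (fun F hF hFn φ => ?_)
    · exact (DCoh.IsQCohD (X := S)).ext_of_isTriangulatedClosed₃ _ hT'
        (PerfA.PCohQCoh.isQCohD_of_isPerfect hB) hL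
    · have e1 : β' ≫ φ = 0 := by
        apply (key F hF hFn).1
        dsimp only
        have : α' ≫ β' = 0 := comp_distTriang_mor_zero₁₂ _ hT'
        rw [reassoc_of% this, zero_comp, comp_zero]
      obtain ⟨ψ, hψ⟩ : ∃ ψ : B⟦(1 : ℤ)⟧ ⟶ F, φ = γ' ≫ ψ := Triangle.yoneda_exact₃ _ hT' φ e1
      let F' : DCoh.D S := F⟦(-1 : ℤ)⟧
      have hF' : DCoh.IsQCohD F' := PerfA.QCohD.isQCohD_shift hF (-1)
      have hFn' : F'.IsGE n := by
        have h5 : TStructure.t.IsGE F n := hFn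
        have h6 : F'.IsGE (n + 1) := TStructure.t.isGE_shift F n (-1) (n + 1) (by lia)
        rw [isGE_iff] at h6 ⊢
        exact fun j hj => h6 j (by lia)
      let s : F'⟦(1 : ℤ)⟧ ≅ F := (shiftFunctorCompIsoId (DCoh.D S) (-1 : ℤ) 1 (by lia)).app F
      obtain ⟨ψ', hψ'⟩ := (shiftFunctor (DCoh.D S) (1 : ℤ)).map_surjective (ψ ≫ s.inv)
      obtain ⟨χ, hχ⟩ := (key F' hF' hFn').2 ψ'
      have hχ' : α' ≫ χ = ψ' := hχ
      have e2 : γ' ≫ α'⟦(1 : ℤ)⟧' = 0 := comp_distTriang_mor_zero₃₁ _ hT'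
      rw [hψ, ← cancel_mono s.inv, Category.assoc, ← hψ', ← hχ', Functor.map_comp, reassoc_of% e2,
        zero_comp, zero_comp]
  obtain ⟨h3, h4⟩ := of_isLE_cone hT' n hC'
  exact PerfA.PCohQCoh.isPseudoCoherentD_of_approx hB α' h3 h4

end D

end K369.RelDual
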