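import Groth.Agent.Perf.K369.RelDual
import Groth.Agent.Perf.K369.MonPairing
import Groth.Agent.Perf.K369.LimCompare
import Groth.Agent.S1115
import Groth.Agent.S0998

/-!
# `Rf_* RHom(K, E) ≅ RHom(L, O_S)`
-/

set_option autoImplicit false

universe u v v' w

open CategoryTheory Limits MonoidalCategory AlgebraicGeometry Pretriangulated Triangulated
attribute [local instance] HasDerivedCategory.standard

open scoped Groth.Agent.Dcoh.MonCat Groth.Agent.Dcoh.ModD

namespace K369.RelDualIso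

open Groth.Agent Groth.Agent.Dcoh Groth.Agent.Dcoh.ModD Groth.Agent.Dual.H323.PerfPush PartialAdj
  Groth.Agent.PerfC.DTens TensCorep RelDual MonPairing

variable {X S : Scheme.{u}} (f : X ⟶ S)

/-- A morphism in `D_QCoh` inducing bijections on `Hom(P, -)` for `P` perfect is an isomorphism. -/
theorem isIso_of_perfect [CompactSpace S] [QuasiSeparatedSpace S] {A B : DCoh.D S} (hA : DCoh.IsQCohD A)
    (hB : DCoh.IsQCohD B) (c : A ⟶ B)
    (h : ∀ P : DCoh.D S, DCoh.IsPerfect P → Function.Bijective (fun φ : P ⟶ A => φ ≫ c)) : IsIso c := by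
  have key := LimCompare.bijective_of_isPerfect c h
  obtain ⟨k, hk⟩ := (key B hB).2 (𝟙 B)
  have hk' : k ≫ c = 𝟙 B := hk
  refine ⟨k, (key A hA).1 ?_, hk'⟩
  dsimp only
  rw [Category.assoc, hk', Category.comp_id, Category.id_comp]

/-- A family of maps natural in `T`, bijective for `T` perfect, gives an isomorphism in `D_QCoh`. -/
theorem nonempty_iso_of_natural [CompactSpace S] [QuasiSeparatedSpace S] {A B : DCoh.D S}
    (hA : DCoh.IsQCohD A) (hB : DCoh.IsQCohD B) (e : ∀ T : DCoh.D S, (T ⟶ A) → (T ⟶ B))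
    (he : ∀ T, DCoh.IsPerfect T → Function.Bijective (e T))
    (nat : ∀ (T T' : DCoh.D S) (u : T' ⟶ T) (g : T ⟶ A), e T' (u ≫ g) = u ≫ e T g) :
    Nonempty (A ≅ B) := by
  have := isIso_of_perfect hA hB (e A (𝟙 A)) (fun P hP => by
    convert he P hP using 2 with φ
    rw [← nat, Category.comp_id])
  exact ⟨asIso (e A (𝟙 A))⟩

/-- `RHom(L, O_S) ≅ Rf_* RHom(K, E)` for a universal arrow `K ⟶ Lf^* L ⊗ᴸ E`. -/
theorem nonempty_iso [CompactSpace S] [QuasiSeparatedSpace S] [DCoh.HasRpush f] [DCoh.HasLpull f]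
    (E : DCoh.D X) (K : CochainComplex X.Modules ℤ) [DCoh.HasLTensorCx K] [DCoh.HasRSheafHom K]
    (hR : DCoh.IsQCohD ((DCoh.Rpush f).obj ((DCoh.RSheafHom K).obj E)))
    (L : CochainComplex S.Modules ℤ) [DCoh.HasLTensorCx L] [DCoh.HasRSheafHom L]
    (hL : DCoh.IsQCohD ((DCoh.RSheafHom L).obj (DCoh.inD S (Coh.structureModule S))))
    {x : DerivedCategory.Q.obj K ⟶ (G f E).obj (DerivedCategory.Q.obj L)}
    (hx : IsUniv (G f E) DCoh.IsQCohD x) :
    Nonempty ((DCoh.Rpush f).obj ((DCoh.RSheafHom K).obj E) ≅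
      (DCoh.RSheafHom L).obj (DCoh.inD S (Coh.structureModule S))) := by
  let _ := Dcoh.MonPull.monPull f
  let _ : (DCoh.Lpull f).Monoidal := Dcoh.MonLpull182.lpullMonoidal f
  let adj := DerPull.lpullAdj f
  let adjK := ModTens.adjQ K
  let adjL := ModTens.adjQ L
  let o : DCoh.inD S (Coh.structureModule S) ≅ 𝟙_ (DCoh.D S) := DualX.unitIso S
  let j : (DCoh.Lpull f).obj (𝟙_ (DCoh.D S)) ⊗ E ≅ E :=
    whiskerRightIso (Functor.Monoidal.εIso (DCoh.Lpull f)).symm E ≪≫ λ_ E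
  suffices H : Nonempty ((DCoh.RSheafHom L).obj (DCoh.inD S (Coh.structureModule S)) ≅
      (DCoh.Rpush f).obj ((DCoh.RSheafHom K).obj E)) from ⟨H.some.symm⟩
  refine nonempty_iso_of_natural hL hR
    (fun T g => adj.homEquiv T _ (adjK.homEquiv ((DCoh.Lpull f).obj T) E
      (psi x T (𝟙_ (DCoh.D S)) ((adjL.homEquiv T _).symm g ≫ o.hom) ≫ j.hom))) (fun T hT => ?_)
    (fun T T' u g => ?_)
  · obtain ⟨T', hT', ⟨h⟩⟩ := exists_leftDual T hT
    have b1 := (adjL.homEquiv T (DCoh.inD S (Coh.structureModule S))).symm.bijective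
    have b2 : Function.Bijective (fun g : T ⊗ DerivedCategory.Q.obj L ⟶ DCoh.inD S (Coh.structureModule S) =>
        g ≫ o.hom) := (o.homToEquiv (Z := T ⊗ DerivedCategory.Q.obj L)).bijective
    have b3 := bijective_psi x hx T T' (𝟙_ (DCoh.D S))
      (isQCohD_tensor (PerfA.PCohQCoh.isQCohD_of_isPerfect hT') (isQCohD_unit S))
    have b4 : Function.Bijective (fun g : (DCoh.Lpull f).obj T ⊗ DerivedCategory.Q.obj K ⟶
        (DCoh.Lpull f).obj (𝟙_ (DCoh.D S)) ⊗ E => g ≫ j.hom) :=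
      (j.homToEquiv (Z := (DCoh.Lpull f).obj T ⊗ DerivedCategory.Q.obj K)).bijective
    have b5 := (adjK.homEquiv ((DCoh.Lpull f).obj T) E).bijective
    have b6 := (adj.homEquiv T ((DCoh.RSheafHom K).obj E)).bijective
    exact b6.comp (b5.comp (b4.comp (b3.comp (b2.comp b1))))
  · have h1 : (adjL.homEquiv T' (DCoh.inD S (Coh.structureModule S))).symm (u ≫ g) =
        u ▷ DerivedCategory.Q.obj L ≫ (adjL.homEquiv T _).symm g :=
      adjL.homEquiv_naturality_left_symm u g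
    rw [h1, Category.assoc, psi_nat, Category.assoc]
    refine (congrArg (adj.homEquiv T' _) ?_).trans (adj.homEquiv_naturality_left u _)
    exact adjK.homEquiv_naturality_left ((DCoh.Lpull f).map u) _

/-- The main theorem. -/
theorem main [CompactSpace S] [QuasiSeparatedSpace S] [IsProper f] [Flat f] [LocallyOfFinitePresentation f]
    [DCoh.HasRpush f] (E : DCoh.D X) (hEpc : ∀ m : ℤ, DCoh.IsPseudoCoherentD m E)
    (hEtor : DCoh.LocHasFiniteRelTorDim f E) (K : CochainComplex X.Modules ℤ)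
    (hK : ∀ m : ℤ, DCoh.IsPseudoCoherentD m (DCoh.toD X K))
    [DCoh.HasLTensorCx K] [DCoh.HasRSheafHom K] :
    ∃ L : CochainComplex S.Modules ℤ, (∀ m : ℤ, DCoh.IsPseudoCoherentD m (DCoh.toD S L)) ∧
      ∀ [DCoh.HasLTensorCx L] [DCoh.HasRSheafHom L],
        Nonempty ((DCoh.Rpush f).obj ((DCoh.RSheafHom K).obj E) ≅
          (DCoh.RSheafHom L).obj (DCoh.inD S (Coh.structureModule S))) := by
  have : CompactSpace X := QuasiCompact.compactSpace_of_compactSpace f
  have : QuasiSeparatedSpace X := quasiSeparatedSpace_of_quasiSeparated f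
  have := DerPull.hasLpull f
  have hE : DCoh.IsQCohD E := PerfA.PCohQCoh.isQCohD_of_isPseudoCoherentD hEpc
  have hperf : ∀ P : DCoh.D X, DCoh.IsPerfect P → ∃ (B : DCoh.D S) (_ : DCoh.IsPerfect B)
      (x : P ⟶ (G f E).obj B), IsUniv (G f E) DCoh.IsQCohD x := fun P hP =>
    TensCorep.exists_univ f E hE (fun V hV => isPerfect_push f hEpc hEtor V hV) P hP
  obtain ⟨a, ha⟩ := exists_isGE_G f hEtor
  obtain ⟨L₀, hL₀, x₀, hx₀⟩ := def_of_isQCohD f E hperf (DCoh.toD X K)
    (PerfA.PCohQCoh.isQCohD_of_isPseudoCoherentD hK)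
  let L := DerivedCategory.Q.objPreimage L₀
  let e : DerivedCategory.Q.obj L ≅ L₀ := DerivedCategory.Q.objObjPreimageIso L₀
  have hx := hx₀.iso_comp e.symm
  have hLq : DCoh.IsQCohD (DerivedCategory.Q.obj L) := PerfC.ProjAbs291.isQCohD_of_iso e.symm hL₀
  have hLpc : ∀ m : ℤ, DCoh.IsPseudoCoherentD m (DerivedCategory.Q.obj L) := fun m =>
    isPseudoCoherentD_of_isUniv f E hperf ha hK hLq hx m
  refine ⟨L, hLpc, ?_⟩
  intro _ _
  refine nonempty_iso f E K ?_ L ?_ hx
  · -- `E` is bounded below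
    let o : DCoh.inD S (Coh.structureModule S) ≅ 𝟙_ (DCoh.D S) := DualX.unitIso S
    let _ := Dcoh.MonPull.monPull f
    let _ : (DCoh.Lpull f).Monoidal := Dcoh.MonLpull182.lpullMonoidal f
    let j : (DCoh.Lpull f).obj (𝟙_ (DCoh.D S)) ⊗ E ≅ E :=
      whiskerRightIso (Functor.Monoidal.εIso (DCoh.Lpull f)).symm E ≪≫ λ_ E
    have h1 : (𝟙_ (DCoh.D S)).IsGE 0 := DerivedCategory.TStructure.t.isGE_of_iso o 0
    have h3 : DerivedCategory.TStructure.t.IsGE ((DCoh.Lpull f).obj (𝟙_ (DCoh.D S)) ⊗ E) (a + 0) :=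
      ha _ 0 h1
    have h2 : E.IsGE (a + 0) := DerivedCategory.TStructure.t.isGE_of_iso j (a + 0)
    exact S0998.result f _ (S1115.result X K hK E hE (a + 0))
  · have h1 : (DCoh.inD S (Coh.structureModule S)).IsGE 0 := inferInstance
    exact S1115.result S L hLpc _ (PerfC.ProjAbs291.isQCohD_of_iso (DualX.unitIso S).symm (isQCohD_unit S)) 0

end K369.RelDualIso
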