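import Groth.Agent.Dual.H352.RelPerf
import Mathlib.Algebra.Module.FinitePresentation

/-!
# Relatively perfect complexes and bounded complexes of finitely presented flat modules

`R → A` flat and `k ∈ D(A)` perfect relative to `R`: `k` is represented by a bounded complex of finitely presented
`A`-modules which are flat over `R`.
-/

set_option autoImplicit false
universe u
open CategoryTheory CategoryTheory.Limits AlgebraicGeometry
attribute [local instance] HasDerivedCategory.standard

namespace K369.RelFP

open Groth.Agent Groth.Agent.Dual.H352.RelPerf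

section Algebra

variable {R A : Type u} [CommRing R] [CommRing A] [Algebra R A]

lemma fp_cok (E : DRing.Cx A) {h a : ℤ} (hha : h + 1 = a) (h1 : Module.Finite A (E.X h))
    (h2 : Module.FinitePresentation A (E.X a)) : Module.FinitePresentation A (E.opcycles a) := by
  obtain ⟨e⟩ := Flat2C.TorAmpRestr.nonempty_opcycles_equiv E hha
  have h3 : Module.FinitePresentation A (Flat2C.TorAmpCone.Cok E h a) := by
    refine Module.finitePresentation_of_surjective (Submodule.mkQ _) (Submodule.mkQ_surjective _) ?_
    rw [Submodule.ker_mkQ]
    have h4 : (⊤ : Submodule A (E.X h)).FG := h1.fg_top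
    have h5 := h4.map (E.d h a).hom
    rwa [Submodule.map_top] at h5
  exact Module.FinitePresentation.of_equiv e.symm

/-- A complex perfect relative to `R` is represented by a bounded complex of finitely presented modules flat over
`R`. -/
theorem exists_fp_flat [Module.Flat R A] (k : Dual.D A) (hk : Dual2.IsRelPerfect R A k) :
    ∃ (E : DRing.Cx A) (a b : ℤ), (∀ i, (i < a ∨ b < i) → IsZero (E.X i)) ∧
      (∀ i, Module.FinitePresentation A (E.X i)) ∧
      (∀ i, Module.Flat R ((ModuleCat.restrictScalars (algebraMap R A)).obj (E.X i))) ∧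
      Nonempty (DerivedCategory.Q.obj E ≅ k) := by
  obtain ⟨⟨E, b, hE0, hEf, ⟨e⟩⟩, a, c, F, hF0, hFf, ⟨eF⟩⟩ := hk
  have hflat : ∀ i, Module.Flat A (E.X i) := fun i => by
    have := (hEf i).2
    infer_instance
  have hfin : ∀ i, Module.Finite A (E.X i) := fun i => (hEf i).1
  have hfp : ∀ i, Module.FinitePresentation A (E.X i) := fun i => by
    have h1 : Module.Finite A (E.X i) := (hEf i).1
    have h2 : Module.Free A (E.X i) := (hEf i).2
    exact Module.finitePresentation_of_projective A (E.X i)
  have i1 : DRing.toD ((DRing.restrictCx (algebraMap R A)).obj E) ≅ DRing.toD F :=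
    (Flat2C.TorAmpRestr.restrictIso (algebraMap R A) E).symm ≪≫
      (DRing.restrictD (algebraMap R A)).mapIso e ≪≫ eF.symm
  have hex : ∀ i, i < a → E.ExactAt i := by
    intro i hi
    rw [← Flat2C.TorAmpRestr.exactAt_restrict_iff (algebraMap R A)]
    exact Flat2C.TorAmpRestr.exactAt_of_iso i1 i (HomologicalComplex.ExactAt.of_isZero (hF0 i (Or.inl hi)))
  obtain ⟨h, hha⟩ : ∃ h : ℤ, h + 1 = a := ⟨a - 1, by omega⟩
  have hcok : Module.Flat R (Flat2C.TorAmpCone.Cok F h a) := by
    have := hFf a
    have h0 : IsZero (F.X h) := hF0 h (Or.inl (by omega))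
    have hs : Subsingleton (F.X h) := ModuleCat.subsingleton_of_isZero h0
    have hr : LinearMap.range (F.d h a).hom = ⊥ := by
      rw [LinearMap.range_eq_bot]
      ext x
      rw [Subsingleton.elim x 0, map_zero, map_zero]
    exact Module.Flat.of_linearEquiv (Submodule.quotEquivOfEqBot _ hr)
  rw [← Flat2C.TorAmpRestr.flat_cok_iff_of_iso (max b c) ((DRing.restrictCx (algebraMap R A)).obj E) F
    (fun i hi => (ModuleCat.restrictScalars (algebraMap R A)).map_isZero
      (hE0 i (lt_of_le_of_lt (le_max_left _ _) hi)))
    (fun i hi => hF0 i (Or.inr (lt_of_le_of_lt (le_max_right _ _) hi)))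
    (fun i => flat_restrict (hflat i)) hFf i1 hha, flat_cok_restrictCx_iff E hha] at hcok
  have hGE : E.IsGE a := by
    rw [CochainComplex.isGE_iff]
    exact hex
  refine ⟨E.truncGE a, a, b, ?_, ?_, ?_,
    ⟨(asIso (DerivedCategory.Q.map (E.πTruncGE a))).symm ≪≫ e⟩⟩
  · intro i hi
    rcases hi with hi | hi
    · exact CochainComplex.isZero_of_isStrictlyGE _ a i hi
    · rcases lt_trichotomy i a with h | h | h
      · exact CochainComplex.isZero_of_isStrictlyGE _ a i h
      · subst h
        refine IsZero.of_iso ?_ (E.truncGEXIsoOpcycles i)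
        exact IsZero.of_epi (E.pOpcycles i) (hE0 i hi)
      · exact IsZero.of_iso (hE0 i hi) (E.truncGEXIso a i h)
  · intro i
    rcases lt_trichotomy i a with h | h | h
    · have := ModuleCat.subsingleton_of_isZero
        (CochainComplex.isZero_of_isStrictlyGE (E.truncGE a) a i h)
      infer_instance
    · subst h
      have := fp_cok E hha (hfin _) (hfp _)
      exact Module.FinitePresentation.of_equiv (E.truncGEXIsoOpcycles i).toLinearEquiv.symm
    · have := hfp i
      exact Module.FinitePresentation.of_equiv (E.truncGEXIso a i h).toLinearEquiv.symm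
  · intro i
    rcases lt_trichotomy i a with h | h | h
    · have h0 : IsZero ((ModuleCat.restrictScalars (algebraMap R A)).obj ((E.truncGE a).X i)) :=
        (ModuleCat.restrictScalars (algebraMap R A)).map_isZero
          (CochainComplex.isZero_of_isStrictlyGE (E.truncGE a) a i h)
      have := ModuleCat.subsingleton_of_isZero h0
      infer_instance
    · subst h
      exact Module.Flat.of_linearEquiv
        ((ModuleCat.restrictScalars (algebraMap R A)).mapIso (E.truncGEXIsoOpcycles i)).toLinearEquiv
    · have := flat_restrict (R := R) (hflat i)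
      exact Module.Flat.of_linearEquiv
        ((ModuleCat.restrictScalars (algebraMap R A)).mapIso (E.truncGEXIso a i h)).toLinearEquiv

end Algebra

end K369.RelFP
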