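import Groth.Agent.Perf.K369.RelFP
import Groth.Agent.KSix.K239.FlatFPSch
import Groth.Agent.PerfB.PcDev
import Groth.Agent.PerfB.BoundedInd
import Groth.Agent.PerfB.TildeExact

/-!
# Relatively perfect complexes are locally bounded complexes of finitely presented flat modules
-/

set_option autoImplicit false
universe u
open CategoryTheory CategoryTheory.Limits AlgebraicGeometry
attribute [local instance] HasDerivedCategory.standard

namespace K369.RelFPSch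

open Groth.Agent Groth.Agent.Dcoh.LocalD Groth.Agent.PerfC.RelPerf Groth.Agent.PerfC.RelAmp

variable {X S U T : Scheme.{u}}

/-- `K` is represented by a bounded complex of finitely presented modules flat over the base. -/
def FPFlat (f : X ⟶ S) (K : DCoh.D X) : Prop :=
  ∃ (G : CochainComplex X.Modules ℤ) (a b : ℤ), DCoh.VanishesOutside G a b ∧
    (∀ i : ℤ, CohB1.IsFP (G.X i) ∧ FlatMod.IsFlatOver f (G.X i)) ∧
    Nonempty (K ≅ DerivedCategory.Q.obj G)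

lemma FPFlat.of_iso {f : X ⟶ S} {K L : DCoh.D X} (e : K ≅ L) (h : FPFlat f K) : FPFlat f L := by
  obtain ⟨G, a, b, h1, h2, ⟨i⟩⟩ := h
  exact ⟨G, a, b, h1, h2, ⟨e.symm ≪≫ i⟩⟩

lemma FPFlat.restrict {f : X ⟶ S} {K : DCoh.D X} (k : U ⟶ X) [IsOpenImmersion k] (h : FPFlat f K) :
    FPFlat (k ≫ f) ((DCoh.restrictD k).obj K) := by
  obtain ⟨G, a, b, h1, h2, ⟨i⟩⟩ := h
  refine ⟨((Scheme.Modules.restrictFunctor k).mapHomologicalComplex (ComplexShape.up ℤ)).obj G,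
    a, b, fun i hi => (Scheme.Modules.restrictFunctor k).map_isZero (h1 i hi),
    fun i => ⟨PerfC.FPSections.isFP_restrict _ (h2 i).1,
      fun v => (Ega3B.FlatRestrict.isFlatOverAt_restrict_iff_comp f k _ v).mpr ((h2 i).2 _)⟩, ⟨?_⟩⟩
  exact (DCoh.restrictD k).mapIso i ≪≫ QRestrict k G

lemma FPFlat.comp {f : X ⟶ S} {K : DCoh.D X} (i : S ⟶ T) [IsOpenImmersion i] (h : FPFlat f K) :
    FPFlat (f ≫ i) K := by
  obtain ⟨G, a, b, h1, h2, e⟩ := h
  exact ⟨G, a, b, h1, fun j => ⟨(h2 j).1, fun x =>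
    (Ega3B.FlatRestrict.isFlatOverAt_comp_iff f i _ x).2 ((h2 j).2 x)⟩, e⟩

/-- The affine case. -/
theorem fpFlat_tildeD (R A : Type u) [CommRing R] [CommRing A] [Algebra R A] [Module.Flat R A]
    [PreservesFiniteLimits (tilde.functor (CommRingCat.of A))]
    (k : Dual.D A) (hk : Dual2.IsRelPerfect R A k) :
    FPFlat (Spec.map (CommRingCat.ofHom (algebraMap R A)))
      ((DCoh.tildeD (CommRingCat.of A)).obj k) := by
  obtain ⟨E, a, b, h1, h2, h3, ⟨e⟩⟩ := RelFP.exists_fp_flat (R := R) k hk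
  refine ⟨(PerfA.TildeModel.tildeCx (CommRingCat.of A)).obj E, a, b, ?_, ?_,
    ⟨S1004.tildeQIso (CommRingCat.of A) E k e⟩⟩
  · intro i hi
    exact (tilde.functor (CommRingCat.of A)).map_isZero (h1 i hi)
  · intro i
    refine ⟨?_, (Dual.H352.RelPerf.isFlatOver_tilde_iff (E.X i)).2 (h3 i)⟩
    have := h2 i
    exact PerfC.FPSections.isFP_tilde (R := CommRingCat.of A) (E.X i)

/-- Relatively perfect complexes on a chart. -/
theorem fpFlat_chart (f : X ⟶ S) [Flat f] [LocallyOfFinitePresentation f] (K : DCoh.D X)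
    (hpc : ∀ m : ℤ, DCoh.IsPseudoCoherentD m K) (ht : DCoh.LocHasFiniteRelTorDim f K) (x : X) :
    ∃ V : X.Opens, x ∈ V ∧ FPFlat (V.ι ≫ f) ((DCoh.restrictD V.ι).obj K) := by
  obtain ⟨_, ⟨T, hT, rfl⟩, hyT, -⟩ := S.isBasis_affineOpens.exists_subset_of_mem_open
    (Set.mem_univ (f x)) isOpen_univ
  obtain ⟨_, ⟨V, hV, rfl⟩, hy, hVT⟩ := X.isBasis_affineOpens.exists_subset_of_mem_open
    (show x ∈ (f ⁻¹ᵁ T : X.Opens) from hyT) (f ⁻¹ᵁ T).2
  have hT : IsAffineOpen T := hT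
  have hV : IsAffineOpen V := hV
  refine ⟨V, hy, ?_⟩
  have hle : V ≤ f ⁻¹ᵁ T := fun x hx => hVT hx
  let _ : Algebra Γ(S, T) Γ(X, V) := (f.appLE T V hle).hom.toAlgebra
  have hflat : Module.Flat Γ(S, T) Γ(X, V) := Flat.flat_appLE (f := f) hT hV hle
  have : PreservesFiniteLimits (tilde.functor (CommRingCat.of Γ(X, V))) :=
    PerfB.TildeExact.preservesFiniteLimits_tilde _
  have w : hV.fromSpec ≫ f = Spec.map (CommRingCat.ofHom (algebraMap Γ(S, T) Γ(X, V))) ≫ hT.fromSpec := by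
    exact (IsAffineOpen.SpecMap_appLE_fromSpec f hT hV hle).symm
  obtain ⟨k, ⟨e⟩, hk⟩ := Dual.H352.RelPerf.exists_isRelPerfect (R := Γ(S, T)) (A := Γ(X, V)) f
    hV.fromSpec hT.fromSpec w hpc ht
  have h1 := ((fpFlat_tildeD Γ(S, T) Γ(X, V) k hk).of_iso e.symm).comp hT.fromSpec
  rw [← w] at h1
  have h2 := h1.restrict hV.isoSpec.hom
  have w2 : hV.isoSpec.hom ≫ hV.fromSpec = Scheme.Opens.ι V := by simp
  rw [← Category.assoc, w2] at h2
  exact h2.of_iso ((restrictCompEq w2).app K)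

/-- Bounded complexes of finitely presented modules flat over the base are pseudo-coherent. -/
theorem FPFlat.pc {f : X ⟶ S} [Flat f] [LocallyOfFinitePresentation f] {K : DCoh.D X} (h : FPFlat f K)
    (m : ℤ) : DCoh.IsPseudoCoherentD m K := by
  obtain ⟨G, a, b, h1, h2, ⟨e⟩⟩ := h
  have h3 : PerfB.PcDev.pcP X (DerivedCategory.Q.obj G) :=
    PerfB.BoundedInd.bounded_induction (PerfB.PcDev.pcP X) G a b h1 fun i m =>
      K239.FlatFP.pc_of_isFP_of_isFlatOver f (G.X i) (h2 i).1 (h2 i).2 m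
  exact PerfC.PcLocal.pc_of_iso e.symm (h3 m)

theorem relPerf_iff (f : X ⟶ S) [Flat f] [LocallyOfFinitePresentation f] (K : DCoh.D X) :
    ((∀ m : ℤ, DCoh.IsPseudoCoherentD m K) ∧ DCoh.LocHasFiniteRelTorDim f K) ↔
      ∀ x : X, ∃ V : X.Opens, x ∈ V ∧ FPFlat (V.ι ≫ f) ((DCoh.restrictD V.ι).obj K) := by
  refine ⟨fun h x => fpFlat_chart f K h.1 h.2 x, fun h => ⟨fun m => ?_, ?_⟩⟩
  · refine PerfC.PcLocal.pc_of_cover _ fun x => ?_
    obtain ⟨V, hx, hV⟩ := h x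
    exact ⟨V, V.ι, inferInstance, ⟨x, hx⟩, rfl, hV.pc m⟩
  · rw [locHasFiniteRelTorDim_iff]
    intro x
    obtain ⟨V, hx, G, a, b, h1, h2, ⟨e⟩⟩ := h x
    exact ⟨V, a, b, hx, G, h1, fun i => (h2 i).2, ⟨e.symm⟩⟩

end K369.RelFPSch
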