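import Groth.Prelude.Def_DCoh2
import Groth.Agent.PerfA.PostTower
import Groth.Agent.PerfA.Milnor
import Mathlib.CategoryTheory.Functor.OfSequence

/-!
# Derived limits of inverse systems of acyclic objects

`C` an abelian category, `P` a detecting class of objects of `C`, `(F n, t n)` an inverse system in `C` such that
`Hom(G[-m], F n) = 0` for `m > 0`, `G` in `P`, and `Hom(G, F (n+1)) ⟶ Hom(G, F n)` is surjective for `n ≥ 1`.  Then the
derived limit of the system `F n [0]` is `N[0]`, where `N` is the limit of the system `F n`.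
-/

set_option autoImplicit false

universe w v u

open CategoryTheory Category Limits Pretriangulated Triangulated DerivedCategory Opposite

namespace K369.RlimHeart

open Groth.Agent.PerfA.PostAbs Groth.Agent.PerfA.PostTower Groth.Agent.PerfA.Milnor ZeroObject

section Milnor

variable {D : Type*} [Category D] [Preadditive D] [HasZeroObject D] [HasShift D ℤ]
  [∀ n : ℤ, (shiftFunctor D n).Additive] [Pretriangulated D]
  {E : ℕ → D} (τ : ∀ n, E (n + 1) ⟶ E n) [HasProduct E]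

/-- `PostTower.milnor_unique` where surjectivity is only required for `n ≥ 1`. -/
lemma milnor_unique' {L : D} (p : L ⟶ ∏ᶜ E) (c : ∏ᶜ E ⟶ L⟦(1 : ℤ)⟧)
    (hT : Triangle.mk p (oneSub τ) c ∈ distTriang D) (X : D)
    (hX : ∀ n, 1 ≤ n → ∀ (y : X⟦(1 : ℤ)⟧ ⟶ E n), ∃ z : X⟦(1 : ℤ)⟧ ⟶ E (n + 1), z ≫ τ n = y)
    (x : X ⟶ L) (hx : ∀ n, x ≫ p ≫ Pi.π E n = 0) : x = 0 := by
  have h0 : x ≫ p = 0 := by
    apply Pi.hom_ext
    intro n
    simpa using hx n
  have h1 : x⟦(1 : ℤ)⟧' ≫ p⟦(1 : ℤ)⟧' = 0 := by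
    rw [← Functor.map_comp, h0, Functor.map_zero]
  obtain ⟨g, hg⟩ : ∃ g : X⟦(1 : ℤ)⟧ ⟶ ∏ᶜ E, x⟦(1 : ℤ)⟧' = g ≫ c :=
    Triangle.coyoneda_exact₁ _ hT (x⟦(1 : ℤ)⟧') h1
  -- solve `z n - z (n+1) ≫ τ n = g n`
  choose s hs using hX
  let z' : ∀ n : ℕ, X⟦(1 : ℤ)⟧ ⟶ E (n + 1) := fun n =>
    Nat.rec (motive := fun n => X⟦(1 : ℤ)⟧ ⟶ E (n + 1)) 0
      (fun n zn => s (n + 1) (by lia) (zn - g ≫ Pi.π E (n + 1))) n
  let z : ∀ n : ℕ, X⟦(1 : ℤ)⟧ ⟶ E n := fun n => match n with
    | 0 => g ≫ Pi.π E 0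
    | n + 1 => z' n
  have hz : ∀ n, z n - z (n + 1) ≫ τ n = g ≫ Pi.π E n := by
    intro n
    cases n with
    | zero =>
      change g ≫ Pi.π E 0 - (0 : X⟦(1 : ℤ)⟧ ⟶ E (0 + 1)) ≫ τ 0 = _
      rw [zero_comp, sub_zero]
    | succ n =>
      have : z' (n + 1) ≫ τ (n + 1) = z' n - g ≫ Pi.π E (n + 1) :=
        hs (n + 1) (by lia) (z' n - g ≫ Pi.π E (n + 1))
      change z' n - z' (n + 1) ≫ τ (n + 1) = _
      rw [this]
      abel
  have hgz : (Pi.lift z : X⟦(1 : ℤ)⟧ ⟶ ∏ᶜ E) ≫ oneSub τ = g := by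
    apply Pi.hom_ext
    intro n
    simp only [assoc, Pi.lift_π, Preadditive.comp_sub, Pi.lift_π_assoc]
    exact hz n
  have hdc : oneSub τ ≫ c = 0 := comp_distTriang_mor_zero₂₃ _ hT
  have h2 : x⟦(1 : ℤ)⟧' = 0 := by
    rw [hg, ← hgz, assoc, hdc, comp_zero]
  exact (shiftFunctor D (1 : ℤ)).map_injective (by rw [h2, Functor.map_zero])

end Milnor

variable {C : Type u} [Category.{v} C] [Abelian C] [HasDerivedCategory.{w} C]
  (F : ℕ → C) (t : ∀ n, F (n + 1) ⟶ F n)

/-- The system `F n [0]`. -/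
noncomputable abbrev SF (n : ℕ) : DerivedCategory C := (singleFunctor C 0).obj (F n)

/-- The transition maps. -/
noncomputable abbrev St (n : ℕ) : SF F (n + 1) ⟶ SF F n := (singleFunctor C 0).map (t n)

variable [HasProduct (SF F)]

/-- The acyclicity hypotheses. -/
structure AcSys (P : ObjectProperty C) : Prop where
  van : ∀ (G : C), P G → ∀ (m : ℤ), 0 < m → ∀ (n : ℕ)
    (φ : (singleFunctor C m).obj G ⟶ (singleFunctor C 0).obj (F n)), φ = 0
  lift : ∀ (G : C), P G → ∀ (n : ℕ), 1 ≤ n → ∀ (y : G ⟶ F n), ∃ z : G ⟶ F (n + 1), z ≫ t n = y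

variable {F t}

/-- `Hom(S_m G, L) = 0` for `m > 0`, `G` in the class and `L` the derived limit. -/
lemma AcSys.hom_eq_zero {P : ObjectProperty C} (h : AcSys F t P) {L : DerivedCategory C}
    (p : L ⟶ ∏ᶜ (SF F)) (c : ∏ᶜ (SF F) ⟶ L⟦(1 : ℤ)⟧)
    (hT : Triangle.mk p (oneSub (St F t)) c ∈ distTriang _) {G : C} (hG : P G) (m : ℤ)
    (hm : 0 < m) (φ : (singleFunctor C m).obj G ⟶ L) : φ = 0 := by
  let e : ((singleFunctor C m).obj G)⟦(1 : ℤ)⟧ ≅ (singleFunctor C (m - 1)).obj G :=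
    ((singleFunctors C).shiftIso 1 (m - 1) m (by lia)).app G
  refine milnor_unique' (St F t) p c hT _ (fun n hn y => ?_) φ
    (fun n => h.van G hG m hm n _)
  by_cases hm' : m = 1
  · subst hm'
    obtain ⟨y', hy'⟩ := (singleFunctor C 0).map_surjective (Y := F n) (X := G) (e.inv ≫ y)
    obtain ⟨z', hz'⟩ := h.lift G hG n hn y'
    refine ⟨e.hom ≫ (singleFunctor C 0).map z', ?_⟩
    rw [assoc, ← Functor.map_comp, hz', hy', Iso.hom_inv_id_assoc]
  · have h0 : e.inv ≫ y = 0 := h.van G hG (m - 1) (by lia) n _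
    refine ⟨0, ?_⟩
    rw [zero_comp, ← cancel_epi e.inv, h0, comp_zero]

/-- The derived limit is in `D^{≥ 0}`. -/
lemma isGE_rlim {L : DerivedCategory C}
    (p : L ⟶ ∏ᶜ (SF F)) (c : ∏ᶜ (SF F) ⟶ L⟦(1 : ℤ)⟧)
    (hT : Triangle.mk p (oneSub (St F t)) c ∈ distTriang _) : L.IsGE 0 := by
  have key : ∀ (Y : DerivedCategory C) [Y.IsLE (-1)] (φ : Y ⟶ L), φ = 0 := by
    intro Y _ φ
    have hY : (Y⟦(1 : ℤ)⟧).IsLE (-2) := TStructure.t.isLE_shift Y (-1) 1 (-2) (by lia)
    refine milnor_unique' (St F t) p c hT Y (fun n _ y => ⟨0, ?_⟩) φ (fun n => ?_)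
    · rw [zero_comp]
      exact (TStructure.t.zero y (-2) 0 (by lia)).symm
    · exact TStructure.t.zero _ (-1) 0 (by lia)
  rw [isGE_iff]
  intro i hi
  have h1 := isIso_homology_truncLTι L 0 i hi
  have h2 : ((tt.truncLT 0).obj L).IsLE (-1) := TStructure.t.isLE_truncLT_obj L 0 (-1) (by lia)
  have h3 : (tt.truncLTι 0).app L = 0 := key _ _
  rw [h3, Functor.map_zero] at h1
  rw [IsZero.iff_id_eq_zero]
  exact (cancel_epi (0 : (homologyFunctor C i).obj ((tt.truncLT 0).obj L) ⟶ _)).1 (by simp)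

/-- The derived limit is in `D^{≤ 0}`. -/
lemma AcSys.isLE_rlim {P : ObjectProperty C} (hP : Detects P) (h : AcSys F t P)
    {L : DerivedCategory C} (p : L ⟶ ∏ᶜ (SF F)) (c : ∏ᶜ (SF F) ⟶ L⟦(1 : ℤ)⟧)
    (hT : Triangle.mk p (oneSub (St F t)) c ∈ distTriang _) : L.IsLE 0 := by
  rw [isLE_iff]
  intro i hi
  by_contra hcon
  have hm : ¬ Mono ((homologyFunctor C i).map (0 : L ⟶ 0)) := by
    intro hm
    apply hcon
    rw [IsZero.iff_id_eq_zero, ← cancel_mono ((homologyFunctor C i).map (0 : L ⟶ 0)),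
      Functor.map_zero, comp_zero, comp_zero]
  obtain ⟨G, hG, φ, hφ, -⟩ := exists_single_of_not_mono hP (0 : L ⟶ 0) i hm
  exact hφ (by rw [h.hom_eq_zero p c hT hG i hi φ, Functor.map_zero])

/-- The derived limit of an acyclic system is `N[0]`, where `N` is the limit of the system. -/
theorem AcSys.exists_rlim {P : ObjectProperty C} (hP : Detects P) (h : AcSys F t P) :
    ∃ (s : Cone (Functor.ofOpSequence t)) (_ : IsLimit s),
      IsMilnor (St F t) (fun n => (singleFunctor C 0).map (s.π.app (op n))) := by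
  obtain ⟨L, π, _, c, hT⟩ := exists_isMilnor (St F t)
  have h1 := isGE_rlim _ c hT
  have h2 := h.isLE_rlim hP _ c hT
  obtain ⟨N, ⟨e⟩⟩ := exists_iso_singleFunctor_obj_of_isGE_of_isLE L 0
  -- the components of the limit cone
  choose q hq using fun n => (singleFunctor C 0).map_surjective (X := N) (Y := F n) (e.inv ≫ π n)
  have hcomp : ∀ n, π (n + 1) ≫ St F t n = π n := IsMilnor.comp ⟨inferInstance, c, hT⟩
  have hq' : ∀ n, q (n + 1) ≫ t n = q n := by
    intro n
    apply (singleFunctor C 0).map_injective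
    rw [Functor.map_comp, hq, hq, assoc, hcomp]
  let s : Cone (Functor.ofOpSequence t) :=
    { pt := N
      π := NatTrans.ofOpSequence (F := (Functor.const ℕᵒᵖ).obj N) (G := Functor.ofOpSequence t) q
        (fun n => by
          rw [Functor.ofOpSequence_map_homOfLE_succ]
          exact (id_comp _).trans (hq' n).symm) }
  have hs : ∀ n, s.π.app (op n) = q n := fun n => rfl
  have hlim : ∀ (M : C) (x : ∀ n, M ⟶ F n) (_ : ∀ n, x (n + 1) ≫ t n = x n),
      ∃ y : M ⟶ N, ∀ n, y ≫ q n = x n := by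
    intro M x hx
    obtain ⟨y, hy⟩ := IsMilnor.exists_lift (τ := St F t) ⟨inferInstance, c, hT⟩
      ((singleFunctor C 0).obj M) (fun n => (singleFunctor C 0).map (x n))
      (fun n => by rw [← Functor.map_comp, hx])
    obtain ⟨y', hy'⟩ := (singleFunctor C 0).map_surjective (X := M) (Y := N) (y ≫ e.hom)
    refine ⟨y', fun n => (singleFunctor C 0).map_injective ?_⟩
    rw [Functor.map_comp, hy', hq, assoc, Iso.hom_inv_id_assoc, hy]
  have huniq : ∀ (M : C) (y : M ⟶ N) (_ : ∀ n, y ≫ q n = 0), y = 0 := by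
    intro M y hy
    apply (singleFunctor C 0).map_injective
    rw [Functor.map_zero, ← cancel_mono e.inv, zero_comp]
    refine milnor_unique' (St F t) _ c hT _ (fun n _ z => ⟨0, ?_⟩) _ (fun n => ?_)
    · have h3 : (((singleFunctor C 0).obj M)⟦(1 : ℤ)⟧).IsLE (-1) :=
        TStructure.t.isLE_shift _ 0 1 (-1) (by lia)
      rw [zero_comp]
      exact (TStructure.t.zero z (-1) 0 (by lia)).symm
    · rw [Pi.lift_π, assoc, ← hq, ← Functor.map_comp, hy, Functor.map_zero]
  refine ⟨s, ?_, ?_⟩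
  · choose l hl using fun (s' : Cone (Functor.ofOpSequence t)) =>
      hlim s'.pt (fun n => s'.π.app (op n)) (fun n => by
        have := s'.w (homOfLE (Nat.le_add_right n 1)).op
        rwa [Functor.ofOpSequence_map_homOfLE_succ] at this)
    exact
      { lift := l
        fac := fun s' j => hl s' j.unop
        uniq := fun s' m hm => by
          rw [← sub_eq_zero]
          refine huniq _ _ (fun n => ?_)
          rw [Preadditive.sub_comp, hl s' n]
          exact sub_eq_zero.2 (hm (op n)) }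
  · refine IsMilnor.of_iso (τ := St F t) (π := π) ⟨inferInstance, c, hT⟩ e.symm (fun n => ?_)
    rw [Iso.symm_hom, hs, hq]

/-- Version for the chosen limit. -/
theorem AcSys.isMilnor_limit {P : ObjectProperty C} (hP : Detects P) (h : AcSys F t P)
    [HasLimit (Functor.ofOpSequence t)] :
    IsMilnor (St F t)
      (fun n => (singleFunctor C 0).map (limit.π (Functor.ofOpSequence t) (op n))) := by
  obtain ⟨s, hs, hM⟩ := h.exists_rlim hP
  refine hM.of_iso ((singleFunctor C 0).mapIso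
    ((limit.isLimit (Functor.ofOpSequence t)).conePointUniqueUpToIso hs)) (fun n => ?_)
  exact ((singleFunctor C 0).map_comp _ _).symm.trans (congrArg (singleFunctor C 0).map
    (IsLimit.conePointUniqueUpToIso_hom_comp (limit.isLimit (Functor.ofOpSequence t)) hs (op n)))

end K369.RlimHeart
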