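import Groth.Agent.Dual.H323.PerfPush
import Groth.Agent.Perf.K369.PartialAdj
import Groth.Agent.PerfA.QCLim
import Groth.Agent.Dual.H359.CompFin
import Groth.Agent.Dual.H304.RelTens
import Groth.Agent.Models2.TorDimRel
import Groth.Agent.S1040
import Groth.Agent.S1094
import Groth.Agent.S1103

/-!
# Corepresentability of `Hom(P, Lf^* - ⊗ᴸ E)` on `D_QCoh`
-/

set_option autoImplicit false

universe u v v' w

open CategoryTheory Limits MonoidalCategory AlgebraicGeometry Pretriangulated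
attribute [local instance] HasDerivedCategory.standard

open scoped Groth.Agent.Dcoh.MonCat Groth.Agent.Dcoh.ModD

namespace K369.TensCorep

open Groth.Agent Groth.Agent.Dcoh Groth.Agent.Dcoh.ModD Groth.Agent.Dual.H323.PerfPush PartialAdj
  Groth.Agent.PerfC.DTens

section Abstract

variable {C : Type u} [Category.{v} C] {D : Type w} [Category.{v'} D] {g : C ⥤ D} {Q : ObjectProperty C}

lemma isUniv_of_bij {P : D} {B : C} (F : ∀ K : C, (B ⟶ K) → (P ⟶ g.obj K))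
    (hF : ∀ K, Q K → Function.Bijective (F K))
    (nat : ∀ (K K' : C) (φ : B ⟶ K) (v : K ⟶ K'), F K' (φ ≫ v) = F K φ ≫ g.map v) :
    IsUniv g Q (F B (𝟙 B)) := by
  intro K hK
  convert hF K hK using 2 with φ
  rw [← nat, Category.id_comp]

end Abstract

section Perf

variable {X Y : Scheme.{u}} (f : X ⟶ Y) [QuasiCompact f] [QuasiSeparated f]

/-- The functor `Lf^* - ⊗ᴸ E`. -/
noncomputable abbrev G [DCoh.HasLpull f] (E : DCoh.D X) : DCoh.D Y ⥤ DCoh.D X :=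
  DCoh.Lpull f ⋙ tensorRight E

/-- `K ↦ Hom(P, Lf^* K ⊗ᴸ E)` is corepresentable on `D_QCoh(Y)`, if `P` is perfect and `Rf_*(- ⊗ᴸ E)` preserves
perfect objects. -/
theorem exists_univ [DCoh.HasRpush f] [DCoh.HasLpull f] (E : DCoh.D X) (hE : DCoh.IsQCohD E)
    (hf : ∀ V : DCoh.D X, DCoh.IsPerfect V → DCoh.IsPerfect ((DCoh.Rpush f).obj (V ⊗ E)))
    (P : DCoh.D X) (hP : DCoh.IsPerfect P) :
    ∃ (B : DCoh.D Y) (_ : DCoh.IsPerfect B) (x : P ⟶ (G f E).obj B),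
      IsUniv (G f E) DCoh.IsQCohD x := by
  obtain ⟨V, hV, ⟨hVP⟩⟩ := exists_leftDual P hP
  obtain ⟨W, hW, ⟨hVW⟩⟩ := PerfDual.exists_exactPairing ((DCoh.Rpush f).obj (V ⊗ E)) (hf V hV)
  obtain ⟨t, ht⟩ := exists_proj f (V ⊗ E) (isQCohD_tensor (PerfA.PCohQCoh.isQCohD_of_isPerfect hV) hE)
  obtain ⟨s⟩ : Nonempty (tensorLeft E ≅ tensorRight E) := ⟨(Dcoh.MonSymm293.weakSymm E).some⟩
  let _ := Dcoh.MonPull.monPull f
  let _ : (DCoh.Lpull f).Monoidal := Dcoh.MonLpull182.lpullMonoidal f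
  let adj := DerPull.lpullAdj f
  let F : ∀ K : DCoh.D Y, (W ⊗ 𝟙_ (DCoh.D Y) ⟶ K) → (P ⟶ (G f E).obj K) := fun K φ =>
    (ρ_ P).inv ≫ (tensorLeftHomEquiv (𝟙_ (DCoh.D X)) V P ((DCoh.Lpull f).obj K ⊗ E)).symm
      (((Functor.Monoidal.εIso (DCoh.Lpull f)).hom ≫
        (adj.homEquiv (𝟙_ (DCoh.D Y)) ((V ⊗ E) ⊗ (DCoh.Lpull f).obj K)).symm
          ((tensorLeftHomEquiv (𝟙_ (DCoh.D Y)) ((DCoh.Rpush f).obj (V ⊗ E)) W K) φ ≫ t.app K)) ≫
        (α_ V E ((DCoh.Lpull f).obj K)).hom ≫ V ◁ s.hom.app ((DCoh.Lpull f).obj K))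
  refine ⟨W ⊗ 𝟙_ (DCoh.D Y), LocalD.isPerfect_of_iso (ρ_ W).symm hW,
    F _ (𝟙 _), isUniv_of_bij F (fun K hK => ?_) (fun K K' φ v => ?_)⟩
  · have := ht K hK
    have h1 : Function.Bijective (fun g : P ⊗ 𝟙_ (DCoh.D X) ⟶ (DCoh.Lpull f).obj K ⊗ E => (ρ_ P).inv ≫ g) :=
      ((ρ_ P).homFromEquiv (Z := (DCoh.Lpull f).obj K ⊗ E)).bijective
    have h2 := (tensorLeftHomEquiv (𝟙_ (DCoh.D X)) V P ((DCoh.Lpull f).obj K ⊗ E)).symm.bijective
    have h0 : Function.Bijective (fun g : 𝟙_ (DCoh.D X) ⟶ (V ⊗ E) ⊗ (DCoh.Lpull f).obj K =>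
        g ≫ (α_ V E ((DCoh.Lpull f).obj K)).hom ≫ V ◁ s.hom.app ((DCoh.Lpull f).obj K)) :=
      ((α_ V E ((DCoh.Lpull f).obj K) ≪≫
        whiskerLeftIso V (s.app ((DCoh.Lpull f).obj K))).homToEquiv (Z := 𝟙_ (DCoh.D X))).bijective
    have h3 : Function.Bijective (fun g : (DCoh.Lpull f).obj (𝟙_ (DCoh.D Y)) ⟶
          (V ⊗ E) ⊗ (DCoh.Lpull f).obj K => (Functor.Monoidal.εIso (DCoh.Lpull f)).hom ≫ g) :=
      ((Functor.Monoidal.εIso (DCoh.Lpull f)).symm.homFromEquiv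
        (Z := (V ⊗ E) ⊗ (DCoh.Lpull f).obj K)).bijective
    have h4 := (adj.homEquiv (𝟙_ (DCoh.D Y)) ((V ⊗ E) ⊗ (DCoh.Lpull f).obj K)).symm.bijective
    have h5 : Function.Bijective (fun g : 𝟙_ (DCoh.D Y) ⟶ (DCoh.Rpush f).obj (V ⊗ E) ⊗ K => g ≫ t.app K) :=
      ((asIso (t.app K)).homToEquiv (Z := 𝟙_ (DCoh.D Y))).bijective
    have h6 := (tensorLeftHomEquiv (𝟙_ (DCoh.D Y)) ((DCoh.Rpush f).obj (V ⊗ E)) W K).bijective
    exact h1.comp (h2.comp (h0.comp (h3.comp (h4.comp (h5.comp h6)))))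
  · have h1 : (DCoh.Rpush f).obj (V ⊗ E) ◁ v ≫ t.app K' =
        t.app K ≫ (DCoh.Rpush f).map ((V ⊗ E) ◁ (DCoh.Lpull f).map v) := t.naturality v
    have h2 : ∀ b : 𝟙_ (DCoh.D X) ⟶ V ⊗ ((DCoh.Lpull f).obj K ⊗ E),
        (tensorLeftHomEquiv (𝟙_ (DCoh.D X)) V P ((DCoh.Lpull f).obj K' ⊗ E)).symm
          (b ≫ V ◁ ((DCoh.Lpull f).map v ▷ E)) =
        (tensorLeftHomEquiv (𝟙_ (DCoh.D X)) V P ((DCoh.Lpull f).obj K ⊗ E)).symm b ≫
          (DCoh.Lpull f).map v ▷ E := by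
      intro b
      rw [Equiv.symm_apply_eq, tensorLeftHomEquiv_naturality, Equiv.apply_symm_apply]
    have h3 : E ◁ (DCoh.Lpull f).map v ≫ s.hom.app ((DCoh.Lpull f).obj K') =
        s.hom.app ((DCoh.Lpull f).obj K) ≫ (DCoh.Lpull f).map v ▷ E := s.hom.naturality _
    have h4 : (V ⊗ E) ◁ (DCoh.Lpull f).map v ≫ (α_ V E ((DCoh.Lpull f).obj K')).hom ≫
        V ◁ s.hom.app ((DCoh.Lpull f).obj K') =
        (α_ V E ((DCoh.Lpull f).obj K)).hom ≫ V ◁ s.hom.app ((DCoh.Lpull f).obj K) ≫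
          V ◁ ((DCoh.Lpull f).map v ▷ E) := by
      rw [← MonoidalCategory.whiskerLeft_comp, ← h3, MonoidalCategory.whiskerLeft_comp,
        tensor_whiskerLeft]
      simp
    have h5 : (adj.homEquiv (𝟙_ (DCoh.D Y)) ((V ⊗ E) ⊗ (DCoh.Lpull f).obj K')).symm
          ((tensorLeftHomEquiv (𝟙_ (DCoh.D Y)) ((DCoh.Rpush f).obj (V ⊗ E)) W K') (φ ≫ v) ≫ t.app K') =
        (adj.homEquiv (𝟙_ (DCoh.D Y)) ((V ⊗ E) ⊗ (DCoh.Lpull f).obj K)).symm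
          ((tensorLeftHomEquiv (𝟙_ (DCoh.D Y)) ((DCoh.Rpush f).obj (V ⊗ E)) W K) φ ≫ t.app K) ≫
          (V ⊗ E) ◁ (DCoh.Lpull f).map v := by
      rw [tensorLeftHomEquiv_naturality, Category.assoc, h1, ← Category.assoc _ (t.app K)]
      exact adj.homEquiv_naturality_right_symm _ _
    dsimp only [F]
    rw [h5, Category.assoc, Category.assoc, Category.assoc, h4]
    refine congrArg ((ρ_ P).inv ≫ ·) ?_
    refine Eq.trans ?_ (h2 _)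
    simp only [Category.assoc]

end Perf

end K369.TensCorep
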