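import Groth.Agent.PerfC.RpushAffine

/-!
# `Rf_* (M~) = (M_A)~`, naturally in `M ∈ D(B)`, for `f = Spec B ⟶ Spec A`
-/

set_option autoImplicit false
universe u

open AlgebraicGeometry CategoryTheory CategoryTheory.Limits Opposite TopologicalSpace
attribute [local instance] HasDerivedCategory.standard

namespace K369.TildeRpush

open Groth.Agent Groth.Agent.PerfC Groth.Agent.PerfC.RpushAffine Groth.Agent.Dcoh.DerSch

variable {R S : CommRingCat.{u}} (φ : R ⟶ S)

lemma isIso_unitQ_app {X Y : Scheme.{u}} (f : X ⟶ Y) [IsAffineHom f] [DCoh.HasRpush f]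
    (K : CochainComplex X.Modules ℤ) (hK : ∀ n, Coh.IsQCoh (K.X n)) :
    IsIso ((rpushUnitQ f).app K) := by
  have := hasInjectiveResolutions X
  have h1 : IsIso ((rpushUnit f).app ((HomotopyCategory.quotient _ _).obj K)) :=
    S1035.result f K hK (fun n i hi => isZero_Rpush f _ (hK n) i hi)
  exact Dcoh.DerComp.isIso_unitQ_app _ _ _ _ h1

lemma isIso_unitQ_whisker [DCoh.HasRpush (Spec.map φ)] :
    IsIso (Functor.whiskerLeft ((tilde.functor S).mapHomologicalComplex (ComplexShape.up ℤ))
      (rpushUnitQ (Spec.map φ))) := by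
  rw [NatTrans.isIso_iff_isIso_app]
  intro K
  exact isIso_unitQ_app (Spec.map φ) _ (fun n => inferInstanceAs
        ((tilde.functor S).obj (K.X n)).IsQuasicoherent)

/-- `f_* (K~) ⟶ Rf_* (K~)` for complexes of modules. -/
noncomputable def unitIso [DCoh.HasRpush (Spec.map φ)] :
    (tilde.functor S).mapHomologicalComplex (ComplexShape.up ℤ) ⋙
        (Scheme.Modules.pushforward (Spec.map φ)).mapHomologicalComplex (ComplexShape.up ℤ) ⋙
          DerivedCategory.Q ≅
      (tilde.functor S).mapHomologicalComplex (ComplexShape.up ℤ) ⋙ DerivedCategory.Q ⋙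
        DCoh.Rpush (Spec.map φ) :=
  haveI := isIso_unitQ_whisker φ
  asIso (Functor.whiskerLeft ((tilde.functor S).mapHomologicalComplex (ComplexShape.up ℤ))
      (rpushUnitQ (Spec.map φ)))

/-- Composition of `mapHomologicalComplex`. -/
noncomputable def mapComp {C D E : Type*} [Category C] [Category D] [Category E] [Abelian C] [Abelian D]
    [Abelian E] (F : C ⥤ D) (G : D ⥤ E) [F.Additive] [G.Additive] :
    F.mapHomologicalComplex (ComplexShape.up ℤ) ⋙ G.mapHomologicalComplex (ComplexShape.up ℤ) ≅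
      (F ⋙ G).mapHomologicalComplex (ComplexShape.up ℤ) :=
  NatIso.ofComponents (fun K => HomologicalComplex.Hom.isoOfComponents (fun i => Iso.refl _)
    (by
      intro i j _
      exact (Category.id_comp _).trans (Category.comp_id _).symm))
    (by
      intro K L f
      ext i
      exact (Category.comp_id _).trans (Category.id_comp _).symm)

/-- The natural isomorphism on complexes. -/
noncomputable def cxIso [DCoh.HasRpush (Spec.map φ)] :
    DerivedCategory.Q ⋙ ((tilde.functor S).mapDerivedCategory ⋙ DCoh.Rpush (Spec.map φ)) ≅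
      DerivedCategory.Q ⋙ ((ModuleCat.restrictScalars.{u} φ.hom).mapDerivedCategory ⋙
        (tilde.functor R).mapDerivedCategory) :=
  (Functor.associator _ _ _).symm ≪≫
    Functor.isoWhiskerRight (tilde.functor S).mapDerivedCategoryFactors _ ≪≫
    Functor.associator _ _ _ ≪≫ (unitIso φ).symm ≪≫ (Functor.associator _ _ _).symm ≪≫
    Functor.isoWhiskerRight (mapComp _ _) _ ≪≫
    Functor.isoWhiskerRight (NatIso.mapHomologicalComplex (G := resTilde φ)
      (TildePush.tildePushIso φ) (ComplexShape.up ℤ)) _ ≪≫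
    Functor.isoWhiskerRight (mapComp (ModuleCat.restrictScalars.{u} φ.hom) (tilde.functor R)).symm _ ≪≫
    Functor.associator _ _ _ ≪≫
    Functor.isoWhiskerLeft _ (tilde.functor R).mapDerivedCategoryFactors.symm ≪≫
    (Functor.associator _ _ _).symm ≪≫
    Functor.isoWhiskerRight (ModuleCat.restrictScalars.{u} φ.hom).mapDerivedCategoryFactors.symm _ ≪≫
    Functor.associator _ _ _

/-- The natural isomorphism. -/
theorem nonempty_iso [DCoh.HasRpush (Spec.map φ)] :
    Nonempty ((tilde.functor S).mapDerivedCategory ⋙ DCoh.Rpush (Spec.map φ) ≅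
      (ModuleCat.restrictScalars.{u} φ.hom).mapDerivedCategory ⋙
        (tilde.functor R).mapDerivedCategory) := by
  let F₁ := (tilde.functor S).mapDerivedCategory ⋙ DCoh.Rpush (Spec.map φ)
  let F₂ := (ModuleCat.restrictScalars.{u} φ.hom).mapDerivedCategory ⋙
        (tilde.functor R).mapDerivedCategory
  let W := HomologicalComplex.quasiIso (ModuleCat.{u} S) (ComplexShape.up ℤ)
  let _ : Localization.Lifting DerivedCategory.Q W (DerivedCategory.Q ⋙ F₁) F₁ := ⟨Iso.refl _⟩
  let _ : Localization.Lifting DerivedCategory.Q W (DerivedCategory.Q ⋙ F₂) F₂ := ⟨Iso.refl _⟩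
  exact ⟨Localization.liftNatIso DerivedCategory.Q W (DerivedCategory.Q ⋙ F₁)
    (DerivedCategory.Q ⋙ F₂) F₁ F₂ (cxIso φ)⟩

end K369.TildeRpush
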